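import Cfsg.Agent.H16.Fi24.Model
import Cfsg.Agent.H16.Fi24.Linear

/-!
Certificates about the stabiliser of a vector of the second singular class in the unitary group on
the six-dimensional space over the field with four elements.
-/

set_option autoImplicit false
set_option maxRecDepth 100000

namespace H82.Fi24Cent

open H16.Fi24

/-- The base vector. -/
def v3 : W := ![(1, 0), (1, 0), (1, 0), (1, 0), (0, 0), (0, 0)]

/-- The second base vector. -/
def w2 : W := ![(1, 0), (1, 0), (0, 0), (0, 0), (0, 0), (0, 0)]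

theorem v3_eq : v3 = rep 3 := by decide
theorem lab_v3 : lab v3 = 3 := by decide
theorem v3_ne : v3 ≠ 0 := by decide

/-- The product along a word. -/
def pr : List (Fin 10) → Equiv.Perm W
  | [] => 1
  | k :: l => gen k * pr l

theorem pr_mem : ∀ l, pr l ∈ K0
  | [] => one_mem _
  | k :: l => mul_mem (gen_mem k) (pr_mem l)

/-- The recorded value. -/
def val : List (Fin 10 × W) → W → W
  | [], x => x
  | (_, m) :: _, _ => m

/-- The recorded values are correct. -/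
def runs : List (Fin 10 × W) → W → Bool
  | [], _ => true
  | (k, m) :: l, x => decide (gen k (val l x) = m) && runs l x

theorem runs_sound (x : W) : ∀ l, runs l x = true → pr (l.map Prod.fst) x = val l x
  | [], _ => rfl
  | (k, m) :: l, h => by
    rw [runs, Bool.and_eq_true, decide_eq_true_eq] at h
    show gen k (pr (l.map Prod.fst) x) = m
    rw [runs_sound x l h.2, h.1]

theorem runs_to {w : List (Fin 10)} {x y : W} {l : List (Fin 10 × W)} (h : runs l x = true)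
    (hw : l.map Prod.fst = w) (hy : val l x = y) : pr w x = y := hy ▸ hw ▸ runs_sound x l h

/-- The map with given images of the basis. -/
def mat (M : Fin 6 → W) (u : W) : W := fun i =>
  mu (M 0 i) (u 0) + mu (M 1 i) (u 1) + mu (M 2 i) (u 2) + mu (M 3 i) (u 3) + mu (M 4 i) (u 4) +
    mu (M 5 i) (u 5)

theorem mat_add (M : Fin 6 → W) (u v : W) : mat M (u + v) = mat M u + mat M v :=
  funext fun i => by simp only [mat, Pi.add_apply, mu_add]; abel

theorem mat_sm (M : Fin 6 → W) (c : F4) (v : W) : mat M (sm c v) = sm c (mat M v) :=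
  funext fun i => by
    have e : ∀ a b c : F4, mu a (mu c b) = mu c (mu a b) := by decide
    simp only [mat, sm, e _ _ c, mu_add]

theorem pr_eq_mat {w : List (Fin 10)} {M : Fin 6 → W}
    (h : ∀ j, pr w (bv j) = mat M (bv j)) : ∀ u, pr w u = mat M u := by
  intro u
  let g : W →+ W := AddMonoidHom.mk' (pr w) (isUni_K0 (pr_mem w)).add
  let f : W →+ W := AddMonoidHom.mk' (mat M) (mat_add M)
  have : g = f := AddMonoidHom.functions_ext W g f fun i a => by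
    show pr w (Pi.single i a) = mat M (Pi.single i a)
    rw [← sm_single, (isUni_K0 (pr_mem w)).sm_comm, mat_sm, h]
  exact DFunLike.congr_fun this u


/-- An element of the stabiliser. -/
def stAM : Fin 6 → W := ![![(0, 0), (1, 1), (1, 0), (1, 1), (1, 1), (1, 0)], ![(0, 1), (1, 0), (0, 1), (0, 0), (1, 0), (0, 1)], ![(1, 0), (1, 1), (0, 0), (1, 1), (1, 1), (1, 0)], ![(0, 1), (0, 0), (0, 1), (1, 0), (1, 0), (0, 1)], ![(1, 0), (1, 1), (1, 0), (1, 1), (0, 0), (1, 0)], ![(0, 1), (1, 0), (0, 1), (1, 0), (1, 0), (0, 0)]]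

/-- An element of the stabiliser. -/
def stA : Equiv.Perm W := pr [9, 2, 7, 0, 5]

theorem stA_eq : ∀ u, stA u = mat stAM u := by
  refine pr_eq_mat fun j => ?_
  fin_cases j
  · exact runs_to (l := [(9, ![(0, 0), (1, 1), (1, 0), (1, 1), (1, 1), (1, 0)]), (2, ![(1, 0), (0, 1), (0, 0), (0, 1), (0, 1), (1, 0)]), (7, ![(1, 0), (0, 1), (0, 0), (0, 1), (0, 1), (0, 1)]), (0, ![(1, 0), (0, 1), (0, 1), (0, 1), (0, 1), (0, 0)]), (5, ![(1, 1), (0, 1), (0, 1), (0, 1), (0, 1), (0, 0)])]) (by decide +kernel) (by decide) (by decide +kernel)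
  · exact runs_to (l := [(9, ![(0, 1), (1, 0), (0, 1), (0, 0), (1, 0), (0, 1)]), (2, ![(1, 1), (0, 0), (1, 1), (1, 0), (1, 0), (1, 1)]), (7, ![(1, 1), (0, 0), (0, 1), (1, 0), (1, 0), (1, 0)]), (0, ![(1, 1), (0, 0), (1, 0), (1, 0), (1, 0), (0, 1)]), (5, ![(0, 1), (0, 0), (1, 0), (1, 0), (1, 0), (1, 1)])]) (by decide +kernel) (by decide) (by decide +kernel)
  · exact runs_to (l := [(9, ![(1, 0), (1, 1), (0, 0), (1, 1), (1, 1), (1, 0)]), (2, ![(0, 0), (0, 1), (1, 0), (0, 1), (0, 1), (1, 0)]), (7, ![(0, 0), (0, 1), (1, 1), (0, 1), (0, 1), (0, 1)]), (0, ![(1, 1), (1, 0), (0, 0), (1, 0), (1, 0), (0, 1)]), (5, ![(0, 1), (1, 0), (0, 0), (1, 0), (1, 0), (1, 1)])]) (by decide +kernel) (by decide) (by decide +kernel)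
  · exact runs_to (l := [(9, ![(0, 1), (0, 0), (0, 1), (1, 0), (1, 0), (0, 1)]), (2, ![(1, 1), (1, 0), (1, 1), (0, 0), (1, 0), (1, 1)]), (7, ![(1, 1), (1, 0), (0, 1), (0, 0), (1, 0), (1, 0)]), (0, ![(1, 1), (1, 0), (1, 0), (0, 0), (1, 0), (0, 1)]), (5, ![(0, 1), (1, 0), (1, 0), (0, 0), (1, 0), (1, 1)])]) (by decide +kernel) (by decide) (by decide +kernel)
  · exact runs_to (l := [(9, ![(1, 0), (1, 1), (1, 0), (1, 1), (0, 0), (1, 0)]), (2, ![(1, 1), (1, 0), (1, 1), (1, 0), (0, 0), (1, 1)]), (7, ![(1, 1), (1, 0), (0, 1), (1, 0), (0, 0), (1, 0)]), (0, ![(1, 1), (1, 0), (1, 0), (1, 0), (0, 0), (0, 1)]), (5, ![(0, 1), (1, 0), (1, 0), (1, 0), (0, 0), (1, 1)])]) (by decide +kernel) (by decide) (by decide +kernel)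
  · exact runs_to (l := [(9, ![(0, 1), (1, 0), (0, 1), (1, 0), (1, 0), (0, 0)]), (2, ![(1, 0), (0, 1), (1, 0), (0, 1), (0, 1), (0, 0)]), (7, ![(1, 0), (0, 1), (1, 1), (0, 1), (0, 1), (0, 0)]), (0, ![(0, 0), (1, 1), (1, 1), (1, 1), (1, 1), (1, 0)]), (5, ![(0, 0), (1, 1), (1, 1), (1, 1), (1, 1), (0, 1)])]) (by decide +kernel) (by decide) (by decide +kernel)

theorem stA_fix : stA v3 = v3 := by rw [stA_eq]; decide +kernel

theorem stA_mem : stA ∈ K0stab v3 := mem_K0stab.2 ⟨pr_mem _, stA_fix⟩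


/-- An element of the stabiliser. -/
def stBM : Fin 6 → W := ![![(0, 0), (1, 0), (1, 0), (1, 0), (1, 1), (0, 1)], ![(1, 0), (0, 0), (1, 0), (1, 0), (1, 1), (0, 1)], ![(1, 0), (1, 0), (0, 0), (1, 0), (1, 1), (0, 1)], ![(1, 0), (1, 0), (1, 0), (0, 0), (1, 1), (0, 1)], ![(1, 1), (1, 1), (1, 1), (1, 1), (0, 1), (0, 0)], ![(0, 1), (0, 1), (0, 1), (0, 1), (0, 0), (1, 1)]]

/-- An element of the stabiliser. -/
def stB : Equiv.Perm W := pr [9, 9]

theorem stB_eq : ∀ u, stB u = mat stBM u := by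
  refine pr_eq_mat fun j => ?_
  fin_cases j
  · exact runs_to (l := [(9, ![(0, 0), (1, 0), (1, 0), (1, 0), (1, 1), (0, 1)]), (9, ![(0, 0), (1, 0), (1, 0), (1, 0), (0, 1), (1, 1)])]) (by decide +kernel) (by decide) (by decide +kernel)
  · exact runs_to (l := [(9, ![(1, 0), (0, 0), (1, 0), (1, 0), (1, 1), (0, 1)]), (9, ![(1, 0), (0, 0), (1, 0), (1, 0), (0, 1), (1, 1)])]) (by decide +kernel) (by decide) (by decide +kernel)
  · exact runs_to (l := [(9, ![(1, 0), (1, 0), (0, 0), (1, 0), (1, 1), (0, 1)]), (9, ![(1, 0), (1, 0), (0, 0), (1, 0), (0, 1), (1, 1)])]) (by decide +kernel) (by decide) (by decide +kernel)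
  · exact runs_to (l := [(9, ![(1, 0), (1, 0), (1, 0), (0, 0), (1, 1), (0, 1)]), (9, ![(1, 0), (1, 0), (1, 0), (0, 0), (0, 1), (1, 1)])]) (by decide +kernel) (by decide) (by decide +kernel)
  · exact runs_to (l := [(9, ![(1, 1), (1, 1), (1, 1), (1, 1), (0, 1), (0, 0)]), (9, ![(0, 1), (0, 1), (0, 1), (0, 1), (1, 1), (0, 0)])]) (by decide +kernel) (by decide) (by decide +kernel)
  · exact runs_to (l := [(9, ![(0, 1), (0, 1), (0, 1), (0, 1), (0, 0), (1, 1)]), (9, ![(1, 1), (1, 1), (1, 1), (1, 1), (0, 0), (0, 1)])]) (by decide +kernel) (by decide) (by decide +kernel)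

theorem stB_fix : stB v3 = v3 := by rw [stB_eq]; decide +kernel

theorem stB_mem : stB ∈ K0stab v3 := mem_K0stab.2 ⟨pr_mem _, stB_fix⟩


/-- An element of the stabiliser. -/
def stCM : Fin 6 → W := ![![(0, 0), (1, 0), (1, 1), (1, 1), (1, 0), (1, 1)], ![(1, 0), (0, 0), (1, 1), (1, 1), (1, 0), (1, 1)], ![(0, 1), (0, 1), (1, 0), (0, 0), (0, 1), (1, 0)], ![(0, 1), (0, 1), (0, 0), (1, 0), (0, 1), (1, 0)], ![(1, 0), (1, 0), (1, 1), (1, 1), (0, 0), (1, 1)], ![(0, 1), (0, 1), (1, 0), (1, 0), (0, 1), (0, 0)]]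

/-- An element of the stabiliser. -/
def stC : Equiv.Perm W := pr [3, 8, 2, 7]

theorem stC_eq : ∀ u, stC u = mat stCM u := by
  refine pr_eq_mat fun j => ?_
  fin_cases j
  · exact runs_to (l := [(3, ![(0, 0), (1, 0), (1, 1), (1, 1), (1, 0), (1, 1)]), (8, ![(0, 0), (1, 0), (1, 1), (0, 1), (1, 0), (1, 0)]), (2, ![(0, 0), (1, 0), (1, 1), (1, 0), (1, 0), (0, 1)]), (7, ![(0, 0), (1, 0), (0, 1), (1, 0), (1, 0), (1, 1)])]) (by decide +kernel) (by decide) (by decide +kernel)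
  · exact runs_to (l := [(3, ![(1, 0), (0, 0), (1, 1), (1, 1), (1, 0), (1, 1)]), (8, ![(1, 0), (0, 0), (1, 1), (0, 1), (1, 0), (1, 0)]), (2, ![(1, 0), (0, 0), (1, 1), (1, 0), (1, 0), (0, 1)]), (7, ![(1, 0), (0, 0), (0, 1), (1, 0), (1, 0), (1, 1)])]) (by decide +kernel) (by decide) (by decide +kernel)
  · exact runs_to (l := [(3, ![(0, 1), (0, 1), (1, 0), (0, 0), (0, 1), (1, 0)]), (8, ![(0, 1), (0, 1), (1, 0), (0, 0), (0, 1), (0, 1)]), (2, ![(0, 1), (0, 1), (1, 0), (0, 1), (0, 1), (0, 0)]), (7, ![(0, 1), (0, 1), (1, 1), (0, 1), (0, 1), (0, 0)])]) (by decide +kernel) (by decide) (by decide +kernel)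
  · exact runs_to (l := [(3, ![(0, 1), (0, 1), (0, 0), (1, 0), (0, 1), (1, 0)]), (8, ![(0, 1), (0, 1), (0, 0), (1, 1), (0, 1), (0, 1)]), (2, ![(1, 0), (1, 0), (1, 1), (0, 0), (1, 0), (0, 1)]), (7, ![(1, 0), (1, 0), (0, 1), (0, 0), (1, 0), (1, 1)])]) (by decide +kernel) (by decide) (by decide +kernel)
  · exact runs_to (l := [(3, ![(1, 0), (1, 0), (1, 1), (1, 1), (0, 0), (1, 1)]), (8, ![(1, 0), (1, 0), (1, 1), (0, 1), (0, 0), (1, 0)]), (2, ![(1, 0), (1, 0), (1, 1), (1, 0), (0, 0), (0, 1)]), (7, ![(1, 0), (1, 0), (0, 1), (1, 0), (0, 0), (1, 1)])]) (by decide +kernel) (by decide) (by decide +kernel)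
  · exact runs_to (l := [(3, ![(0, 1), (0, 1), (1, 0), (1, 0), (0, 1), (0, 0)]), (8, ![(0, 1), (0, 1), (1, 0), (1, 1), (0, 1), (0, 0)]), (2, ![(1, 1), (1, 1), (0, 0), (1, 1), (1, 1), (1, 0)]), (7, ![(1, 1), (1, 1), (0, 0), (1, 1), (1, 1), (0, 1)])]) (by decide +kernel) (by decide) (by decide +kernel)

theorem stC_fix : stC v3 = v3 := by rw [stC_eq]; decide +kernel

theorem stC_mem : stC ∈ K0stab v3 := mem_K0stab.2 ⟨pr_mem _, stC_fix⟩


/-- An element of the stabiliser. -/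
def stDM : Fin 6 → W := ![![(1, 0), (0, 0), (0, 0), (0, 0), (0, 0), (0, 0)], ![(0, 0), (1, 0), (0, 0), (0, 0), (0, 0), (0, 0)], ![(0, 0), (0, 0), (1, 0), (0, 0), (0, 0), (0, 0)], ![(0, 0), (0, 0), (0, 0), (1, 0), (0, 0), (0, 0)], ![(0, 0), (0, 0), (0, 0), (0, 0), (0, 1), (0, 0)], ![(0, 0), (0, 0), (0, 0), (0, 0), (0, 0), (1, 1)]]

/-- An element of the stabiliser. -/
def stD : Equiv.Perm W := pr [4]

theorem stD_eq : ∀ u, stD u = mat stDM u := by
  refine pr_eq_mat fun j => ?_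
  fin_cases j
  · exact runs_to (l := [(4, ![(1, 0), (0, 0), (0, 0), (0, 0), (0, 0), (0, 0)])]) (by decide +kernel) (by decide) (by decide +kernel)
  · exact runs_to (l := [(4, ![(0, 0), (1, 0), (0, 0), (0, 0), (0, 0), (0, 0)])]) (by decide +kernel) (by decide) (by decide +kernel)
  · exact runs_to (l := [(4, ![(0, 0), (0, 0), (1, 0), (0, 0), (0, 0), (0, 0)])]) (by decide +kernel) (by decide) (by decide +kernel)
  · exact runs_to (l := [(4, ![(0, 0), (0, 0), (0, 0), (1, 0), (0, 0), (0, 0)])]) (by decide +kernel) (by decide) (by decide +kernel)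
  · exact runs_to (l := [(4, ![(0, 0), (0, 0), (0, 0), (0, 0), (0, 1), (0, 0)])]) (by decide +kernel) (by decide) (by decide +kernel)
  · exact runs_to (l := [(4, ![(0, 0), (0, 0), (0, 0), (0, 0), (0, 0), (1, 1)])]) (by decide +kernel) (by decide) (by decide +kernel)

theorem stD_fix : stD v3 = v3 := by rw [stD_eq]; decide +kernel

theorem stD_mem : stD ∈ K0stab v3 := mem_K0stab.2 ⟨pr_mem _, stD_fix⟩


/-- An element of the stabiliser. -/
def fiveM : Fin 6 → W := ![![(0, 0), (1, 0), (0, 1), (0, 1), (0, 1), (0, 1)], ![(0, 1), (1, 1), (1, 0), (1, 0), (1, 0), (0, 0)], ![(1, 0), (0, 0), (1, 1), (1, 1), (1, 1), (1, 1)], ![(0, 1), (1, 1), (1, 0), (1, 0), (0, 0), (1, 0)], ![(0, 1), (1, 1), (1, 0), (0, 0), (1, 0), (1, 0)], ![(0, 1), (1, 1), (0, 0), (1, 0), (1, 0), (1, 0)]]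

/-- An element of the stabiliser. -/
def five : Equiv.Perm W := pr [2, 7, 1, 5, 5, 1, 0]

theorem five_eq : ∀ u, five u = mat fiveM u := by
  refine pr_eq_mat fun j => ?_
  fin_cases j
  · exact runs_to (l := [(2, ![(0, 0), (1, 0), (0, 1), (0, 1), (0, 1), (0, 1)]), (7, ![(0, 0), (1, 0), (1, 0), (0, 1), (0, 1), (1, 1)]), (1, ![(1, 1), (0, 1), (1, 0), (1, 0), (1, 0), (0, 0)]), (5, ![(1, 1), (1, 0), (1, 0), (1, 0), (1, 0), (0, 0)]), (5, ![(1, 0), (1, 1), (1, 1), (1, 1), (1, 1), (0, 0)]), (1, ![(0, 1), (0, 0), (0, 0), (0, 0), (0, 0), (0, 0)]), (0, ![(0, 1), (0, 0), (0, 0), (0, 0), (0, 0), (0, 0)])]) (by decide +kernel) (by decide) (by decide +kernel)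
  · exact runs_to (l := [(2, ![(0, 1), (1, 1), (1, 0), (1, 0), (1, 0), (0, 0)]), (7, ![(0, 1), (1, 1), (1, 1), (1, 0), (1, 0), (0, 0)]), (1, ![(1, 0), (0, 0), (0, 1), (0, 1), (0, 1), (0, 1)]), (5, ![(1, 0), (0, 0), (0, 1), (0, 1), (0, 1), (1, 1)]), (5, ![(1, 1), (0, 0), (0, 1), (0, 1), (0, 1), (1, 0)]), (1, ![(0, 0), (0, 1), (0, 0), (0, 0), (0, 0), (0, 0)]), (0, ![(0, 0), (1, 0), (0, 0), (0, 0), (0, 0), (0, 0)])]) (by decide +kernel) (by decide) (by decide +kernel)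
  · exact runs_to (l := [(2, ![(1, 0), (0, 0), (1, 1), (1, 1), (1, 1), (1, 1)]), (7, ![(1, 0), (0, 0), (0, 1), (1, 1), (1, 1), (1, 0)]), (1, ![(1, 1), (0, 1), (0, 0), (1, 0), (1, 0), (1, 0)]), (5, ![(1, 1), (1, 0), (0, 0), (1, 0), (1, 0), (0, 1)]), (5, ![(0, 1), (1, 0), (0, 0), (1, 0), (1, 0), (1, 1)]), (1, ![(0, 0), (0, 0), (1, 0), (0, 0), (0, 0), (0, 0)]), (0, ![(0, 0), (0, 0), (1, 0), (0, 0), (0, 0), (0, 0)])]) (by decide +kernel) (by decide) (by decide +kernel)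
  · exact runs_to (l := [(2, ![(0, 1), (1, 1), (1, 0), (1, 0), (0, 0), (1, 0)]), (7, ![(0, 1), (1, 1), (1, 1), (1, 0), (0, 0), (0, 1)]), (1, ![(1, 1), (0, 1), (1, 0), (0, 0), (1, 0), (1, 0)]), (5, ![(1, 1), (1, 0), (1, 0), (0, 0), (1, 0), (0, 1)]), (5, ![(0, 1), (1, 0), (1, 0), (0, 0), (1, 0), (1, 1)]), (1, ![(0, 0), (0, 0), (0, 0), (1, 0), (0, 0), (0, 0)]), (0, ![(0, 0), (0, 0), (0, 0), (1, 0), (0, 0), (0, 0)])]) (by decide +kernel) (by decide) (by decide +kernel)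
  · exact runs_to (l := [(2, ![(0, 1), (1, 1), (1, 0), (0, 0), (1, 0), (1, 0)]), (7, ![(0, 1), (1, 1), (1, 1), (0, 0), (1, 0), (0, 1)]), (1, ![(1, 1), (0, 1), (1, 0), (1, 0), (0, 0), (1, 0)]), (5, ![(1, 1), (1, 0), (1, 0), (1, 0), (0, 0), (0, 1)]), (5, ![(0, 1), (1, 0), (1, 0), (1, 0), (0, 0), (1, 1)]), (1, ![(0, 0), (0, 0), (0, 0), (0, 0), (1, 0), (0, 0)]), (0, ![(0, 0), (0, 0), (0, 0), (0, 0), (1, 0), (0, 0)])]) (by decide +kernel) (by decide) (by decide +kernel)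
  · exact runs_to (l := [(2, ![(0, 1), (1, 1), (0, 0), (1, 0), (1, 0), (1, 0)]), (7, ![(0, 1), (1, 1), (0, 0), (1, 0), (1, 0), (0, 1)]), (1, ![(0, 0), (1, 0), (1, 1), (1, 1), (1, 1), (1, 1)]), (5, ![(0, 0), (1, 1), (1, 1), (1, 1), (1, 1), (1, 0)]), (5, ![(0, 0), (1, 0), (1, 0), (1, 0), (1, 0), (1, 1)]), (1, ![(0, 0), (0, 0), (0, 0), (0, 0), (0, 0), (0, 1)]), (0, ![(0, 0), (0, 0), (0, 0), (0, 0), (0, 0), (1, 1)])]) (by decide +kernel) (by decide) (by decide +kernel)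

theorem five_fix : five v3 = v3 := by rw [five_eq]; decide +kernel

theorem five_mem : five ∈ K0stab v3 := mem_K0stab.2 ⟨pr_mem _, five_fix⟩

/-- A factor. -/
def comA : Equiv.Perm W := pr [4, 2, 2]

/-- A factor. -/
def comB : Equiv.Perm W := pr [5, 2, 9]

/-- A factor. -/
def comC : Equiv.Perm W := pr [9, 5, 2]

/-- A factor. -/
def comD : Equiv.Perm W := pr [5, 1, 6]

theorem pr_append : ∀ a b, pr (a ++ b) = pr a * pr b
  | [], b => (one_mul _).symm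
  | k :: a, b => by rw [List.cons_append, pr, pr, pr_append a b, mul_assoc]

theorem gen_cube : ∀ k, gen k ^ 3 = 1 := by
  intro k
  have h : ∀ d : Fin 6 → ZMod 3, mono 1 d ^ 3 = 1 := fun d => by
    rw [pow_succ, pow_two, mono_mul, mono_mul, one_mul, one_mul, ← mono_one]
    congr 1
    funext i
    have : ∀ x : ZMod 3, x + x + x = 0 := by decide
    exact this _
  rw [gen]
  split
  · exact h _
  · have e : TW * mono 1 (gd ⟨k.val - 5, by omega⟩) * TW =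
        TW * mono 1 (gd ⟨k.val - 5, by omega⟩) * TW⁻¹ := by rw [TW_inv]
    rw [e, conj_pow, h, mul_one, mul_inv_cancel]

theorem pr_inv : ∀ a, (pr a)⁻¹ = pr (a.reverse.flatMap fun k => [k, k])
  | [] => inv_one
  | k :: a => by
    rw [List.reverse_cons, List.flatMap_append, pr_append, pr, mul_inv_rev, pr_inv a]
    congr 1
    show (gen k)⁻¹ = gen k * (gen k * 1)
    rw [mul_one, inv_eq_iff_mul_eq_one, ← mul_assoc, ← gen_cube k, pow_succ, pow_two]

theorem omega_commutator : ∀ u, (comA * comB * comA⁻¹ * comB⁻¹ * (comC * comD * comC⁻¹ * comD⁻¹)) u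
    = wW u := by
  have e : comA * comB * comA⁻¹ * comB⁻¹ * (comC * comD * comC⁻¹ * comD⁻¹) = pr [4, 2, 2, 5, 2, 9, 2, 2, 2, 2, 4, 4, 9, 9, 2, 2, 5, 5, 9, 5, 2, 5, 1, 6, 2, 2, 5, 5, 9, 9, 6, 6, 1, 1, 5, 5] := by
    simp only [comA, comB, comC, comD, pr_inv, ← pr_append]
    rfl
  rw [e]
  refine congrFun ((isUni_K0 (pr_mem _)).ext_basis ?_ fun j => ?_)
  · exact (isUni_mono 1 fun _ => 1)
  fin_cases j
  · exact runs_to (l := [(4, ![(0, 1), (0, 0), (0, 0), (0, 0), (0, 0), (0, 0)]), (2, ![(0, 1), (0, 0), (0, 0), (0, 0), (0, 0), (0, 0)]), (2, ![(0, 1), (0, 0), (0, 0), (0, 0), (0, 0), (0, 0)]), (5, ![(0, 1), (0, 0), (0, 0), (0, 0), (0, 0), (0, 0)]), (2, ![(1, 1), (1, 0), (1, 0), (1, 0), (1, 0), (0, 0)]), (9, ![(1, 1), (1, 0), (1, 1), (1, 0), (1, 0), (0, 0)]), (2, ![(0, 0), (0, 1), (0, 0), (0, 1), (0, 1), (0, 0)]), (2, ![(0, 0), (0, 1), (0, 0), (0, 1), (0, 1), (0, 0)]), (2, ![(0, 0), (0, 1), (0, 0), (0,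 1), (0, 1), (0, 0)]), (2, ![(0, 0), (0, 1), (0, 0), (0, 1), (0, 1), (0, 0)]), (4, ![(0, 0), (0, 1), (0, 0), (0, 1), (0, 1), (0, 0)]), (4, ![(0, 0), (0, 1), (0, 0), (0, 1), (1, 0), (0, 0)]), (9, ![(0, 0), (0, 1), (0, 0), (0, 1), (1, 1), (0, 0)]), (9, ![(0, 1), (0, 0), (0, 1), (0, 0), (1, 0), (0, 0)]), (2, ![(1, 0), (1, 1), (1, 0), (1, 1), (0, 1), (0, 0)]), (2, ![(1, 0), (1, 1), (1, 1), (1, 1), (0, 1), (0, 0)]), (5, ![(1, 0), (1, 1), (0, 1), (1, 1), (0, 1), (0, 0)]), (5, ![(0, 1), (0, 0), (1, 0), (0, 0), (1, 0), (0, 0)]), (9, ![(1, 1), (1, 0), (0, 0), (1, 0), (0, 0), (0, 0)]), (5, ![(0, 0), (0, 1), (1, 1), (0, 1), (0, 1), (1, 0)]), (2, ![(1, 1), (1, 0), (0, 0), (1, 0), (1, 0), (1, 0)]), (5, ![(1, 1), (1, 0), (0, 0), (1, 0), (1, 0), (0, 1)]), (1, ![(0, 1), (1, 0), (0, 0), (1, 0), (1, 0), (1, 1)]), (6, ![(0, 1), (1, 1), (0, 0), (1, 0), (1, 0), (1, 0)]), (2, ![(0, 0), (0, 0), (0, 1), (1, 1), (1, 1), (0, 0)]),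 (2, ![(0, 0), (0, 0), (1, 0), (1, 1), (1, 1), (0, 0)]), (5, ![(0, 0), (0, 0), (1, 1), (1, 1), (1, 1), (0, 0)]), (5, ![(0, 1), (1, 1), (0, 0), (0, 0), (0, 0), (1, 0)]), (9, ![(1, 0), (1, 1), (0, 0), (0, 0), (0, 0), (0, 1)]), (9, ![(0, 0), (0, 1), (1, 0), (1, 0), (1, 0), (0, 1)]), (6, ![(0, 1), (0, 0), (1, 1), (1, 1), (1, 1), (0, 1)]), (6, ![(0, 0), (1, 1), (1, 0), (1, 0), (1, 0), (1, 1)]), (1, ![(0, 1), (0, 1), (1, 1), (1, 1), (1, 1), (0, 0)]), (1, ![(0, 1), (1, 0), (1, 1), (1, 1), (1, 1), (0, 0)]), (5, ![(0, 1), (1, 1), (1, 1), (1, 1), (1, 1), (0, 0)]), (5, ![(1, 1), (0, 1), (0, 1), (0, 1), (0, 1), (0, 0)])]) (by decide +kernel) (by decide) (by decide +kernel)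
  · exact runs_to (l := [(4, ![(0, 0), (0, 1), (0, 0), (0, 0), (0, 0), (0, 0)]), (2, ![(0, 0), (0, 1), (0, 0), (0, 0), (0, 0), (0, 0)]), (2, ![(0, 0), (0, 1), (0, 0), (0, 0), (0, 0), (0, 0)]), (5, ![(0, 0), (0, 1), (0, 0), (0, 0), (0, 0), (0, 0)]), (2, ![(1, 0), (0, 0), (0, 1), (0, 1), (0, 1), (1, 1)]), (9, ![(1, 0), (0, 0), (1, 0), (0, 1), (0, 1), (1, 0)]), (2, ![(0, 0), (1, 0), (0, 0), (1, 1), (0, 1), (0, 0)]), (2, ![(0, 0), (1, 0), (0, 0), (1, 1), (0, 1), (0, 0)]), (2, ![(0, 0), (1, 0), (0, 0), (1, 1), (0, 1), (0, 0)]), (2, ![(0, 0), (1, 0), (0, 0), (1, 1), (0, 1), (0, 0)]), (4, ![(0, 0), (1, 0), (0, 0), (1, 1), (0, 1), (0, 0)]), (4, ![(0, 0), (1, 0), (0, 0), (1, 1), (1, 0), (0, 0)]), (9, ![(0, 0), (1, 0), (0, 0), (1, 1), (1, 1), (0, 0)]), (9, ![(0, 0), (1, 0), (0, 0), (1, 1), (0, 0), (1, 1)]), (2, ![(1, 1), (0, 1), (1, 1), (0, 0), (1, 0), (1, 0)]), (2, ![(1, 1), (0, 1), (0, 1), (0, 0), (1, 0), (0,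 1)]), (5, ![(1, 1), (0, 1), (1, 0), (0, 0), (1, 0), (1, 1)]), (5, ![(0, 0), (1, 1), (0, 0), (1, 0), (0, 0), (1, 0)]), (9, ![(1, 0), (1, 1), (0, 0), (1, 0), (0, 0), (0, 0)]), (5, ![(0, 1), (0, 0), (1, 1), (0, 1), (0, 1), (1, 0)]), (2, ![(1, 0), (0, 0), (1, 1), (0, 1), (0, 1), (0, 1)]), (5, ![(1, 0), (0, 0), (0, 1), (0, 1), (0, 1), (1, 1)]), (1, ![(1, 1), (0, 0), (0, 1), (0, 1), (0, 1), (1, 0)]), (6, ![(1, 1), (0, 0), (0, 1), (0, 1), (0, 1), (0, 1)]), (2, ![(1, 0), (1, 1), (0, 0), (0, 0), (0, 0), (1, 1)]), (2, ![(1, 0), (1, 1), (0, 0), (0, 0), (0, 0), (1, 0)]), (5, ![(1, 0), (1, 1), (0, 0), (0, 0), (0, 0), (0, 1)]), (5, ![(0, 0), (0, 0), (1, 1), (1, 1), (1, 1), (0, 0)]), (9, ![(0, 1), (1, 1), (0, 0), (0, 0), (0, 0), (1, 0)]), (9, ![(1, 0), (0, 0), (1, 1), (1, 1), (1, 1), (1, 0)]), (6, ![(0, 0), (1, 0), (0, 1), (0, 1), (0, 1), (1, 0)]), (6, ![(1, 1), (1, 1), (1, 0), (1, 0), (1, 0), (0, 0)]), (1, ![(1, 1),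 (0, 0), (1, 0), (1, 0), (1, 0), (1, 1)]), (1, ![(1, 1), (0, 0), (1, 0), (1, 0), (1, 0), (1, 0)]), (5, ![(1, 1), (0, 0), (1, 0), (1, 0), (1, 0), (0, 1)]), (5, ![(0, 1), (0, 0), (1, 0), (1, 0), (1, 0), (1, 1)])]) (by decide +kernel) (by decide) (by decide +kernel)
  · exact runs_to (l := [(4, ![(0, 0), (0, 0), (0, 1), (0, 0), (0, 0), (0, 0)]), (2, ![(0, 0), (0, 0), (0, 1), (0, 0), (0, 0), (0, 0)]), (2, ![(0, 0), (0, 0), (1, 0), (0, 0), (0, 0), (0, 0)]), (5, ![(0, 0), (0, 0), (1, 1), (0, 0), (0, 0), (0, 0)]), (2, ![(0, 1), (1, 1), (0, 0), (1, 1), (1, 1), (1, 0)]), (9, ![(0, 1), (1, 1), (0, 0), (1, 1), (1, 1), (0, 1)]), (2, ![(1, 0), (0, 0), (1, 1), (0, 0), (0, 0), (0, 1)]), (2, ![(1, 0), (0, 0), (0, 1), (0, 0), (0, 0), (1, 1)]), (2, ![(1, 0), (0, 0), (1, 0), (0, 0), (0, 0), (1, 0)]), (2, ![(1, 0), (0, 0), (1, 1), (0, 0), (0, 0), (0, 1)]), (4, ![(1, 0), (0, 0), (0, 1), (0, 0), (0, 0), (1, 1)]), (4, ![(1,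 0), (0, 0), (0, 1), (0, 0), (0, 0), (1, 0)]), (9, ![(1, 0), (0, 0), (0, 1), (0, 0), (0, 0), (0, 1)]), (9, ![(1, 0), (0, 0), (0, 1), (0, 0), (0, 1), (0, 0)]), (2, ![(1, 1), (0, 1), (0, 0), (0, 1), (1, 0), (1, 0)]), (2, ![(1, 1), (0, 1), (0, 0), (0, 1), (1, 0), (0, 1)]), (5, ![(1, 1), (0, 1), (0, 0), (0, 1), (1, 0), (1, 1)]), (5, ![(0, 1), (0, 0), (0, 1), (0, 0), (1, 1), (0, 0)]), (9, ![(0, 0), (0, 0), (0, 1), (0, 0), (1, 1), (0, 1)]), (5, ![(1, 1), (1, 1), (1, 0), (1, 1), (0, 0), (0, 1)]), (2, ![(0, 1), (1, 1), (1, 0), (1, 1), (0, 0), (1, 1)]), (5, ![(0, 1), (1, 1), (1, 1), (1, 1), (0, 0), (1, 0)]), (1, ![(1, 0), (1, 1), (1, 1), (1, 1), (0, 0), (0, 1)]), (6, ![(1, 0), (0, 1), (1, 1), (1, 1), (0, 0), (1, 1)]), (2, ![(0, 0), (0, 0), (0, 1), (0, 1), (1, 0), (0, 0)]), (2, ![(0, 0), (0, 0), (1, 0), (0, 1), (1, 0), (0, 0)]), (5, ![(0, 0), (0, 0), (1, 1), (0, 1), (1, 0), (0, 0)]), (5, ![(0, 0), (0, 0), (1, 1),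 (0, 1), (1, 0), (0, 0)]), (9, ![(0, 0), (0, 0), (1, 1), (0, 1), (1, 0), (0, 0)]), (9, ![(0, 1), (0, 1), (1, 0), (0, 0), (1, 0), (0, 1)]), (6, ![(1, 1), (1, 1), (0, 0), (1, 0), (1, 0), (1, 1)]), (6, ![(1, 1), (1, 1), (0, 0), (1, 0), (1, 0), (1, 1)]), (1, ![(1, 1), (1, 1), (0, 0), (1, 0), (1, 0), (1, 1)]), (1, ![(1, 1), (0, 1), (0, 0), (1, 0), (1, 0), (1, 0)]), (5, ![(1, 1), (1, 0), (0, 0), (1, 0), (1, 0), (0, 1)]), (5, ![(0, 1), (1, 0), (0, 0), (1, 0), (1, 0), (1, 1)])]) (by decide +kernel) (by decide) (by decide +kernel)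
  · exact runs_to (l := [(4, ![(0, 0), (0, 0), (0, 0), (0, 1), (0, 0), (0, 0)]), (2, ![(0, 0), (0, 0), (0, 0), (0, 1), (0, 0), (0, 0)]), (2, ![(0, 0), (0, 0), (0, 0), (0, 1), (0, 0), (0, 0)]), (5, ![(0, 0), (0, 0), (0, 0), (0, 1), (0, 0), (0, 0)]), (2, ![(1, 0), (0, 1), (0, 1), (0, 0), (0, 1), (1, 1)]), (9, ![(1, 0), (0, 1), (1, 0), (0, 0), (0, 1), (1, 0)]), (2, ![(0, 0), (1, 1), (0, 0), (1, 0), (0, 1), (0, 0)]), (2, ![(0, 0), (1, 1), (0, 0), (1, 0), (0, 1), (0, 0)]), (2, ![(0, 0), (1, 1), (0, 0), (1, 0), (0, 1), (0, 0)]), (2, ![(0, 0), (1, 1), (0, 0), (1, 0), (0, 1), (0, 0)]), (4, ![(0, 0), (1, 1), (0, 0), (1, 0), (0, 1), (0, 0)]), (4, ![(0, 0), (1, 1), (0, 0), (1, 0), (1, 0), (0, 0)]), (9, ![(0, 0), (1, 1), (0, 0), (1, 0), (1, 1), (0, 0)]), (9, ![(0, 0), (1, 1), (0, 0), (1, 0), (0, 0), (1, 1)]), (2, ![(1, 1), (0, 0), (1, 1), (0, 1), (1, 0), (1, 0)]), (2, ![(1, 1), (0, 0), (0, 1), (0, 1), (1, 0), (0,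 1)]), (5, ![(1, 1), (0, 0), (1, 0), (0, 1), (1, 0), (1, 1)]), (5, ![(0, 0), (1, 0), (0, 0), (1, 1), (0, 0), (1, 0)]), (9, ![(1, 0), (1, 0), (0, 0), (1, 1), (0, 0), (0, 0)]), (5, ![(0, 1), (0, 1), (1, 1), (0, 0), (0, 1), (1, 0)]), (2, ![(1, 0), (0, 1), (1, 1), (0, 0), (0, 1), (0, 1)]), (5, ![(1, 0), (0, 1), (0, 1), (0, 0), (0, 1), (1, 1)]), (1, ![(1, 1), (0, 1), (0, 1), (0, 0), (0, 1), (1, 0)]), (6, ![(1, 1), (1, 0), (0, 1), (0, 0), (0, 1), (0, 1)]), (2, ![(0, 0), (0, 0), (1, 0), (1, 1), (1, 0), (0, 0)]), (2, ![(0, 0), (0, 0), (1, 1), (1, 1), (1, 0), (0, 0)]), (5, ![(0, 0), (0, 0), (0, 1), (1, 1), (1, 0), (0, 0)]), (5, ![(0, 0), (0, 0), (0, 1), (1, 1), (1, 0), (0, 0)]), (9, ![(0, 0), (0, 0), (0, 1), (1, 1), (1, 0), (0, 0)]), (9, ![(0, 1), (0, 1), (0, 0), (1, 0), (1, 0), (0, 1)]), (6, ![(1, 1), (1, 1), (1, 0), (0, 0), (1, 0), (1, 1)]), (6, ![(1, 1), (1, 1), (1, 0), (0, 0), (1, 0), (1, 1)]), (1, ![(1, 1),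 (1, 1), (1, 0), (0, 0), (1, 0), (1, 1)]), (1, ![(1, 1), (0, 1), (1, 0), (0, 0), (1, 0), (1, 0)]), (5, ![(1, 1), (1, 0), (1, 0), (0, 0), (1, 0), (0, 1)]), (5, ![(0, 1), (1, 0), (1, 0), (0, 0), (1, 0), (1, 1)])]) (by decide +kernel) (by decide) (by decide +kernel)
  · exact runs_to (l := [(4, ![(0, 0), (0, 0), (0, 0), (0, 0), (0, 1), (0, 0)]), (2, ![(0, 0), (0, 0), (0, 0), (0, 0), (1, 0), (0, 0)]), (2, ![(0, 0), (0, 0), (0, 0), (0, 0), (1, 0), (0, 0)]), (5, ![(0, 0), (0, 0), (0, 0), (0, 0), (1, 0), (0, 0)]), (2, ![(1, 1), (1, 0), (1, 0), (1, 0), (0, 0), (0, 1)]), (9, ![(1, 1), (1, 0), (1, 1), (1, 0), (0, 0), (1, 1)]), (2, ![(0, 1), (0, 0), (0, 1), (0, 0), (0, 0), (0, 1)]), (2, ![(0, 1), (0, 0), (1, 0), (0, 0), (0, 0), (1, 1)]), (2, ![(0, 1), (0, 0), (1, 1), (0, 0), (0, 0), (1, 0)]), (2, ![(0, 1), (0, 0), (0, 1), (0, 0), (0, 0), (0, 1)]), (4, ![(0, 1), (0, 0), (1, 0), (0, 0), (0, 0), (1, 1)]), (4, ![(0,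 1), (0, 0), (1, 0), (0, 0), (0, 0), (1, 0)]), (9, ![(0, 1), (0, 0), (1, 0), (0, 0), (0, 0), (0, 1)]), (9, ![(0, 1), (0, 0), (1, 0), (0, 0), (0, 1), (0, 0)]), (2, ![(0, 0), (0, 1), (1, 1), (0, 1), (1, 0), (1, 0)]), (2, ![(0, 0), (0, 1), (0, 1), (0, 1), (1, 0), (0, 1)]), (5, ![(0, 0), (0, 1), (1, 0), (0, 1), (1, 0), (1, 1)]), (5, ![(0, 0), (1, 1), (0, 0), (1, 1), (0, 0), (0, 1)]), (9, ![(0, 0), (0, 0), (1, 1), (0, 0), (1, 1), (1, 0)]), (5, ![(1, 1), (1, 1), (0, 0), (1, 1), (1, 1), (0, 1)]), (2, ![(1, 1), (1, 0), (0, 1), (1, 0), (1, 0), (0, 0)]), (5, ![(1, 1), (1, 0), (1, 0), (1, 0), (1, 0), (0, 0)]), (1, ![(1, 0), (1, 1), (1, 1), (1, 1), (1, 1), (0, 0)]), (6, ![(1, 0), (0, 1), (1, 1), (1, 1), (1, 1), (0, 0)]), (2, ![(0, 1), (0, 1), (0, 0), (0, 0), (0, 0), (1, 1)]), (2, ![(0, 1), (0, 1), (0, 0), (0, 0), (0, 0), (1, 0)]), (5, ![(0, 1), (0, 1), (0, 0), (0, 0), (0, 0), (0, 1)]), (5, ![(0, 1), (0, 1), (0, 0),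 (0, 0), (0, 0), (0, 1)]), (9, ![(0, 1), (0, 1), (0, 0), (0, 0), (0, 0), (0, 1)]), (9, ![(1, 0), (1, 0), (1, 1), (1, 1), (0, 0), (1, 0)]), (6, ![(1, 1), (1, 1), (1, 0), (1, 0), (0, 0), (1, 1)]), (6, ![(1, 1), (1, 1), (1, 0), (1, 0), (0, 0), (1, 1)]), (1, ![(1, 1), (1, 1), (1, 0), (1, 0), (0, 0), (1, 1)]), (1, ![(1, 1), (0, 1), (1, 0), (1, 0), (0, 0), (1, 0)]), (5, ![(1, 1), (1, 0), (1, 0), (1, 0), (0, 0), (0, 1)]), (5, ![(0, 1), (1, 0), (1, 0), (1, 0), (0, 0), (1, 1)])]) (by decide +kernel) (by decide) (by decide +kernel)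
  · exact runs_to (l := [(4, ![(0, 0), (0, 0), (0, 0), (0, 0), (0, 0), (0, 1)]), (2, ![(0, 0), (0, 0), (0, 0), (0, 0), (0, 0), (1, 1)]), (2, ![(0, 0), (0, 0), (0, 0), (0, 0), (0, 0), (1, 0)]), (5, ![(0, 0), (0, 0), (0, 0), (0, 0), (0, 0), (0, 1)]), (2, ![(0, 0), (1, 1), (1, 1), (1, 1), (1, 1), (1, 0)]), (9, ![(0, 0), (1, 1), (0, 1), (1, 1), (1, 1), (0, 1)]), (2, ![(1, 1), (0, 0), (1, 0), (0, 0), (0, 0), (0, 1)]), (2, ![(1, 1), (0, 0), (1, 1), (0, 0), (0, 0), (1, 1)]), (2, ![(1, 1), (0, 0), (0, 1), (0, 0), (0, 0), (1, 0)]), (2, ![(1, 1), (0, 0), (1, 0), (0, 0), (0, 0), (0, 1)]), (4, ![(1, 1), (0, 0), (1, 1), (0, 0), (0, 0), (1, 1)]), (4, ![(1, 1), (0, 0), (1, 1), (0, 0), (0, 0), (1, 0)]), (9, ![(1, 1), (0, 0), (1, 1), (0, 0), (0, 0), (0, 1)]), (9, ![(0, 0), (1, 1), (0, 0), (1, 1), (0, 0), (1, 0)]), (2, ![(0, 1), (1, 0), (0, 1), (1, 0), (0, 0), (1, 1)]), (2, ![(0, 1), (1, 0), (1, 0), (1, 0), (0, 0), (1,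 0)]), (5, ![(0, 1), (1, 0), (1, 1), (1, 0), (0, 0), (0, 1)]), (5, ![(1, 0), (0, 0), (0, 1), (0, 0), (1, 0), (0, 0)]), (9, ![(0, 0), (0, 0), (0, 1), (0, 0), (1, 0), (1, 0)]), (5, ![(1, 1), (1, 1), (1, 0), (1, 1), (1, 1), (0, 0)]), (2, ![(0, 0), (1, 1), (1, 0), (1, 1), (1, 1), (1, 1)]), (5, ![(0, 0), (1, 1), (1, 1), (1, 1), (1, 1), (1, 0)]), (1, ![(0, 0), (1, 0), (1, 0), (1, 0), (1, 0), (1, 1)]), (6, ![(0, 0), (1, 1), (1, 0), (1, 0), (1, 0), (1, 0)]), (2, ![(1, 0), (0, 1), (0, 0), (0, 0), (0, 0), (1, 0)]), (2, ![(1, 0), (0, 1), (0, 0), (0, 0), (0, 0), (0, 1)]), (5, ![(1, 0), (0, 1), (0, 0), (0, 0), (0, 0), (1, 1)]), (5, ![(1, 1), (0, 1), (0, 0), (0, 0), (0, 0), (1, 0)]), (9, ![(0, 0), (0, 0), (0, 1), (0, 1), (0, 1), (0, 0)]), (9, ![(1, 0), (1, 0), (1, 1), (1, 1), (1, 1), (0, 0)]), (6, ![(1, 1), (1, 1), (1, 0), (1, 0), (1, 0), (0, 0)]), (6, ![(1, 1), (0, 0), (1, 0), (1, 0), (1, 0), (1, 1)]), (1, ![(0, 0),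 (1, 0), (0, 1), (0, 1), (0, 1), (1, 0)]), (1, ![(0, 0), (1, 1), (0, 1), (0, 1), (0, 1), (0, 1)]), (5, ![(0, 0), (0, 1), (0, 1), (0, 1), (0, 1), (1, 1)]), (5, ![(0, 0), (1, 1), (1, 1), (1, 1), (1, 1), (0, 1)])]) (by decide +kernel) (by decide) (by decide +kernel)

/-- Orthogonal to the base line. -/
def perph (u : W) : Prop := Bf v3 u = 0 ∧ Bf v3 (wW u) = 0

instance (u : W) : Decidable (perph u) := inferInstanceAs (Decidable (_ ∧ _))

/-- In the base line. -/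
def inL (u : W) : Prop := u = 0 ∨ u = v3 ∨ u = wW v3 ∨ u = wW (wW v3)

instance (u : W) : Decidable (inL u) := inferInstanceAs (Decidable (_ ∨ _))

theorem Bf_sum (x y : W) :
    Bf x y = ∑ i, ((nz (x i + y i) : ZMod 2) + nz (x i) + nz (y i)) := by
  have hq : ∀ u : W, qf u = ∑ j, (nz (u j) : ZMod 2) := fun u => by
    simp only [qf, cnt, Fin.sum_univ_six, Nat.cast_add]
  simp only [Bf, hq, Finset.sum_add_distrib, Pi.add_apply]

theorem Bf_v3 (u : W) : Bf v3 u = (u 0).2 + (u 1).2 + (u 2).2 + (u 3).2 := by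
  have h1 : ∀ a : F4, (nz ((1, 0) + a) : ZMod 2) + nz ((1, 0) : F4) + nz a = a.2 := by decide
  have h0 : ∀ a : F4, (nz ((0, 0) + a) : ZMod 2) + nz ((0, 0) : F4) + nz a = 0 := by decide
  rw [Bf_sum, Fin.sum_univ_six]
  show (nz ((1, 0) + u 0) : ZMod 2) + nz ((1, 0) : F4) + nz (u 0) +
    ((nz ((1, 0) + u 1) : ZMod 2) + nz ((1, 0) : F4) + nz (u 1)) +
    ((nz ((1, 0) + u 2) : ZMod 2) + nz ((1, 0) : F4) + nz (u 2)) +
    ((nz ((1, 0) + u 3) : ZMod 2) + nz ((1, 0) : F4) + nz (u 3)) +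
    ((nz ((0, 0) + u 4) : ZMod 2) + nz ((0, 0) : F4) + nz (u 4)) +
    ((nz ((0, 0) + u 5) : ZMod 2) + nz ((0, 0) : F4) + nz (u 5)) = _
  rw [h1, h1, h1, h1, h0, h0, add_zero, add_zero]

theorem perph_iff (u : W) : perph u ↔ u 3 = u 0 + u 1 + u 2 := by
  have key : ∀ a b c d : F4,
      (a.2 + b.2 + c.2 + d.2 = 0 ∧ (mu (0, 1) a).2 + (mu (0, 1) b).2 + (mu (0, 1) c).2 + (mu (0, 1) d).2 = 0) ↔
        d = a + b + c := by decide +kernel
  rw [perph, Bf_v3, Bf_v3]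
  exact key _ _ _ _

/-- The representative with vanishing fourth coordinate. -/
def can (u : W) : W := u + sm (u 3) v3

theorem can_perph {u : W} (hu : perph u) :
    can u = ![u 0 + u 3, u 1 + u 3, u 0 + u 3 + (u 1 + u 3), 0, u 4, u 5] := by
  have key : ∀ a b c d : F4, d = a + b + c → c + d = a + d + (b + d) := by decide +kernel
  have h1 : ∀ a : F4, mu a (1, 0) = a := fun a => by rw [mu_comm, mu_one]
  have h0 : ∀ a : F4, mu a (0, 0) = 0 := mu_zero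
  have h2 : ∀ a : F4, a + a = 0 := by decide
  funext i
  fin_cases i
  · show u 0 + mu (u 3) (1, 0) = u 0 + u 3
    rw [h1]
  · show u 1 + mu (u 3) (1, 0) = u 1 + u 3
    rw [h1]
  · show u 2 + mu (u 3) (1, 0) = u 0 + u 3 + (u 1 + u 3)
    rw [h1]
    exact key _ _ _ _ ((perph_iff u).1 hu)
  · show u 3 + mu (u 3) (1, 0) = 0
    rw [h1, h2]
  · show u 4 + mu (u 3) (0, 0) = u 4
    rw [h0, add_zero]
  · show u 5 + mu (u 3) (0, 0) = u 5
    rw [h0, add_zero]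

theorem sm_v3_cases : ∀ a : F4, inL (sm a v3) := by decide +kernel

theorem inL_cases {u : W} (h : inL u) : ∃ a, u = sm a v3 := by
  rcases h with rfl | rfl | rfl | rfl
  · exact ⟨0, by decide⟩
  · exact ⟨(1, 0), by decide⟩
  · exact ⟨(0, 1), rfl⟩
  · exact ⟨(1, 1), by decide⟩

/-- Distances to the base class. -/
def rankN : ℕ := 0x1001001001000002000033000040002003000000300402000030000300004000000000000000000000000000000000000000000000000000000000000000000000000000000000000000000000000000000000000000000000000000000000000000000000000000000000000000000000000000000000000000000000000000400400400200000400004400002000100100000010010400004000040000200000000000000000000000000000000000000000000000000000000000000000000000000000000000000000000000000000000000000000000000000000000000000000000000000000000000000000000000000000000000000000000000000030030030030000030000330000300030030000003003030000300003000030000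0000000000000000000000000000000000000000000000000000000000000000000000000000000000000000000000000000000000000000000000000000000000000000000000000000000000000000000000000000000000000000000000040040020040000010000110000100040040000002004040000400002000040000000000000000000000000000000000000000000000000000000000000000000000000000000000000000000000000000000000000000000000000000000000000000000000000000000000000000000000000000000000000000000000000003003003003000003000033000030003003000000300303000030000300003000000000000000000000000000000000000000000000000000000000000000000000000000000000000000000000000000000000000000000000000000000000000000000000000000000000000000000000000000000000000000000000000000300200300400000100001100001000300200000030040300002000030000400000000000000000000000000000000000000000000000000000000000000000000000000000000000000000000000000000000000000000000000000000000000000000000000000000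0000000000000000000000000000000000000000000000100100100100000400004400002000400400000040020400004000040000200000000000000000000000000000000000000000000000000000000000000000000000000000000000000000000000000000000000000000000000000000000000000000000000000000000000000000000000000000000000000000000000000020040040040000020000440000400010010000001001020000400004000040000000000000000000000000000000000000000000000000000000000000000000000000000000000000000000000000000000000000000000000000000000000000000000000000000000000000000000000000000000000000000000000000004004004002000001000011000010004004000000400204000040000400002000000000000000000000000000000000000000000000000000000000000000000000000000000000000000000000000000000000000000000000000000000000000000000000000000000000000000000000000000000000000000000000000000300300300300000300003300003000300300000030030300003000030000300000000000000000000000000000000000000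0000000000000000000000000000000000000000000000000000000000000000000000000000000000000000000000000000000000000000000000000000000000000000000000000000000000000300300200400000300003200004000100100000010010300003000020000400000000000000000000000000000000000000000000000000000000000000000000000000000000000000000000000000000000000000000000000000000000000000000000000000000000000000000000000000000000000000000000000000010010010010000040000240000400040020000004004040000200004000040000000000000000000000000000000000000000000000000000000000000000000000000000000000000000000000000000000000000000000000000000000000000000000000000000000000000000000000000000000000000000000000000004002004004000004000024000040001001000000100104000020000400004000000000000000000000000000000000000000000000000000000000000000000000000000000000000000000000000000000000000000000000000000000000000000000000000000000000000000000000000000000000000000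000000000000100100100100000400004200004000400400000020040400004000020000400000000000000000000000000000000000000000000000000000000000000000000000000000000000000000000000000000000000000000000000000000000000000000000000000000000000000000000000000000000000000000000000000020040040040000010000110000100020040000004004020000400004000040000000000000000000000000000000000000000000000000000000000000000000000000000000000000000000000000000000000000000000000000000000000000000000000000000000000000000000000000000000000000000000000000003003003004000003000033000040003003000000300400000000000000000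

/-- Distance to the base class. -/
def rk (n : ℕ) : ℕ := (rankN >>> (4 * n)) % 16

/-- One step towards the base class. -/
def stepOK (M : Fin 6 → W) (u : W) : Bool :=
  let n := code (can (mat M u + u))
  (decide (rk n < rk (code u)) && decide (n ≠ 0))

/-- The base class or one step towards it. -/
def rankStep (u : W) : Bool :=
  [code w2, code (wW w2), code (wW (wW w2))].contains (code u) ||
    stepOK stAM u || stepOK stBM u || stepOK stCM u

theorem rank_ok : ∀ a b e f : F4, ![a, b, a + b, 0, e, f] ≠ (0 : W) →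
    rankStep ![a, b, a + b, 0, e, f] = true := by decide +kernel

theorem five_fixed : ∀ a b e f : F4, mat fiveM ![a, b, a + b, 0, e, f] = ![a, b, a + b, 0, e, f] →
    ![a, b, a + b, 0, e, f] = (0 : W) := by decide +kernel

/-- An image of the second base vector. -/
def w2a : W := ![(0, 1), (0, 1), (1, 1), (1, 1), (0, 1), (1, 1)]

/-- An image of the second base vector. -/
def w2b : W := ![(0, 1), (1, 1), (1, 1), (0, 1), (1, 0), (1, 0)]

theorem diff_ok : mat stAM w2 = w2a ∧ mat stAM w2a = w2b ∧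
    wW v3 = (mat stAM w2 + w2) + (mat stBM w2a + w2a) + (mat stBM w2b + w2b) ∧
    v3 = (mat stBM w2b + w2b) + (mat stDM w2b + w2b) := by decide +kernel

theorem not_isotropic : perph w2 ∧ ¬ inL w2 ∧ Bf w2 (wW w2b) = 1 := by decide +kernel

/-- A vector distinguishing transvections. -/
def wT : W := ![(1, 1), (0, 1), (0, 0), (0, 0), (0, 0), (0, 0)]

theorem wT_ok : Bf v3 wT = 0 ∧ lab (wT + v3) ≠ lab wT := by decide +kernel

theorem wT_span : ∀ u : W, perph u ∨ perph (u + wT) ∨ perph (u + wW wT) ∨ perph (u + wW (wW wT)) :=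
  forall_W (by decide +kernel)

theorem perp_perp {w : W} (h : ∀ u : W, Bf v3 u = 0 → Bf w u = 0) : w = 0 ∨ w = v3 := by
  have hs : ∀ (i : Fin 6) (b : F4), Bf w (Pi.single i b) = 0 →
      Bf (Pi.single i (w i)) (Pi.single i b) = 0 := fun i b e => Bf_single w i b ▸ e
  have t45 : ∀ b c : F4, Bf v3 (Pi.single 4 b) = 0 ∧ Bf v3 (Pi.single 5 c) = 0 := by
    decide +kernel
  have t0 : Bf v3 (Pi.single 0 (1, 0)) = 0 ∧ Bf v3 (Pi.single 1 (1, 0)) = 0 ∧
      Bf v3 (Pi.single 2 (1, 0)) = 0 ∧ Bf v3 (Pi.single 3 (1, 0)) = 0 := by decide +kernel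
  have e45 : ∀ a : F4, ((∀ b, Bf (Pi.single 4 a) (Pi.single 4 b) = 0) → a = 0) ∧
      ((∀ b, Bf (Pi.single 5 a) (Pi.single 5 b) = 0) → a = 0) := by decide +kernel
  have e0 : ∀ a : F4, (Bf (Pi.single 0 a) (Pi.single 0 (1, 0)) = 0 → a.2 = 0) ∧
      (Bf (Pi.single 1 a) (Pi.single 1 (1, 0)) = 0 → a.2 = 0) ∧
      (Bf (Pi.single 2 a) (Pi.single 2 (1, 0)) = 0 → a.2 = 0) ∧
      (Bf (Pi.single 3 a) (Pi.single 3 (1, 0)) = 0 → a.2 = 0) := by decide +kernel
  have h4 := (e45 (w 4)).1 fun b => hs 4 b (h _ (t45 b 0).1)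
  have h5 := (e45 (w 5)).2 fun b => hs 5 b (h _ (t45 0 b).2)
  have a0 := (e0 (w 0)).1 (hs 0 _ (h _ t0.1))
  have a1 := (e0 (w 1)).2.1 (hs 1 _ (h _ t0.2.1))
  have a2 := (e0 (w 2)).2.2.1 (hs 2 _ (h _ t0.2.2.1))
  have a3 := (e0 (w 3)).2.2.2 (hs 3 _ (h _ t0.2.2.2))
  have hw : w = ![((w 0).1, 0), ((w 1).1, 0), ((w 2).1, 0), ((w 3).1, 0), 0, 0] := by
    funext i
    fin_cases i
    · exact Prod.ext rfl a0
    · exact Prod.ext rfl a1
    · exact Prod.ext rfl a2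
    · exact Prod.ext rfl a3
    · exact h4
    · exact h5
  have key : ∀ p q r s : ZMod 2,
      Bf ![(p, 0), (q, 0), (r, 0), (s, 0), 0, 0] ![(0, 1), (0, 1), 0, 0, 0, 0] = 0 →
      Bf ![(p, 0), (q, 0), (r, 0), (s, 0), 0, 0] ![0, (0, 1), (0, 1), 0, 0, 0] = 0 →
      Bf ![(p, 0), (q, 0), (r, 0), (s, 0), 0, 0] ![0, 0, (0, 1), (0, 1), 0, 0] = 0 →
      (![(p, 0), (q, 0), (r, 0), (s, 0), 0, 0] : W) = 0 ∨
        ![(p, 0), (q, 0), (r, 0), (s, 0), 0, 0] = v3 := by decide +kernel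
  rw [hw]
  exact key _ _ _ _ (hw ▸ h _ (by decide +kernel)) (hw ▸ h _ (by decide +kernel))
    (hw ▸ h _ (by decide +kernel))

theorem anti_witness : perph w2 ∧ ∀ a b : W, (a = 0 ∨ a = v3) → (b = 0 ∨ b = v3) →
    wW (wW (w2 + b)) ≠ wW w2 + a := by
  refine ⟨by decide +kernel, ?_⟩
  rintro a b (rfl | rfl) (rfl | rfl) <;> decide +kernel

end H82.Fi24Cent
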