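import Cfsg.Agent.H16.Fi24.Fusion

/-!
The model seen from inside the whole group.
-/

set_option autoImplicit false

namespace H82.Fi24Cent

open H16.Fi24

universe u

variable {G : Type u} [Group G] {z : G} {Q : Subgroup (Subgroup.centralizer ({z} : Set G))}

/-- The conjugate of the normal subgroup by an element. -/
abbrev Qc (Q : Subgroup (Subgroup.centralizer ({z} : Set G))) (g : G) : Subgroup G :=
  (up Q).map (MulAut.conj g).toMonoidHom

theorem mem_Qc {g x : G} : x ∈ Qc Q g ↔ g⁻¹ * x * g ∈ up Q := by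
  rw [Qc, Subgroup.mem_map_equiv, MulAut.conj_symm_apply]

/-- An element commuting with `z` as an element of the centraliser. -/
abbrev hc (k : G) (hk : k * z = z * k) : Subgroup.centralizer ({z} : Set G) :=
  ⟨k, Subgroup.mem_centralizer_singleton_iff.2 hk⟩

theorem up_comm_z {x : G} (hx : x ∈ up Q) : x * z = z * x := by
  obtain ⟨y, -, rfl⟩ := hx
  exact Subgroup.mem_centralizer_singleton_iff.1 y.2

theorem Qc_comm {g x : G} (hx : x ∈ Qc Q g) : x * (g * z * g⁻¹) = g * z * g⁻¹ * x := by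
  have h := up_comm_z (mem_Qc.1 hx)
  calc x * (g * z * g⁻¹) = g * (g⁻¹ * x * g * z) * g⁻¹ := by group
    _ = g * (z * (g⁻¹ * x * g)) * g⁻¹ := by rw [h]
    _ = g * z * g⁻¹ * x := by group

variable [Q.Normal]

theorem up_conj {k x : G} (hk : k * z = z * k) (hx : x ∈ up Q) : k * x * k⁻¹ ∈ up Q := by
  obtain ⟨y, hy, rfl⟩ := hx
  exact ⟨hc k hk * y * (hc k hk)⁻¹, Subgroup.Normal.conj_mem inferInstance y hy _, rfl⟩

theorem Qc_eq {g g' : G} (h : g * z * g⁻¹ = g' * z * g'⁻¹) : Qc Q g = Qc Q g' := by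
  have key : ∀ a b : G, a * z * a⁻¹ = b * z * b⁻¹ → Qc Q a ≤ Qc Q b := by
    intro a b e x hx
    rw [mem_Qc] at hx ⊢
    have hk : b⁻¹ * a * z = z * (b⁻¹ * a) := by
      calc b⁻¹ * a * z = b⁻¹ * (a * z * a⁻¹) * a := by group
        _ = b⁻¹ * (b * z * b⁻¹) * a := by rw [e]
        _ = z * (b⁻¹ * a) := by group
    have h2 := up_conj hk hx
    rwa [show b⁻¹ * a * (a⁻¹ * x * a) * (b⁻¹ * a)⁻¹ = b⁻¹ * x * b by group] at h2
  exact le_antisymm (key g g' h) (key g' g h.symm)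

theorem Qc_conj {g k x : G} (hk : k * (g * z * g⁻¹) = g * z * g⁻¹ * k) (hx : x ∈ Qc Q g) :
    k * x * k⁻¹ ∈ Qc Q g := by
  have e : Qc Q (k * g) = Qc Q g := Qc_eq (by
    rw [show k * g * z * (k * g)⁻¹ = k * (g * z * g⁻¹) * k⁻¹ by group, hk, mul_inv_cancel_right])
  rw [← e, mem_Qc, show (k * g)⁻¹ * (k * x * k⁻¹) * (k * g) = g⁻¹ * x * g by group]
  exact mem_Qc.1 hx

theorem Qc_self {g : G} (hz : z ∈ up Q) : g * z * g⁻¹ ∈ Qc Q g := by
  rw [mem_Qc, show g⁻¹ * (g * z * g⁻¹) * g = z by group]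
  exact hz

variable (D : Model z Q)

open Classical in
/-- The vector of an element. -/
noncomputable def V (x : G) : W := if h : x * z = z * x then D.Φ (hc x h) else 0

open Classical in
/-- The permutation of an element. -/
noncomputable def R (k : G) : Equiv.Perm W := if h : k * z = z * k then D.ρ (hc k h) else 1

theorem V_coe (x : Subgroup.centralizer ({z} : Set G)) : V D (x : G) = D.Φ x :=
  dif_pos (Subgroup.mem_centralizer_singleton_iff.1 x.2)

theorem R_coe (x : Subgroup.centralizer ({z} : Set G)) : R D (x : G) = D.ρ x :=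
  dif_pos (Subgroup.mem_centralizer_singleton_iff.1 x.2)

theorem R_mul {a b : G} (ha : a * z = z * a) (hb : b * z = z * b) : R D (a * b) = R D a * R D b := by
  have h := R_coe D (hc a ha * hc b hb)
  rw [_root_.map_mul, ← R_coe D (hc a ha), ← R_coe D (hc b hb)] at h
  exact h

theorem R_inv {a : G} (ha : a * z = z * a) : R D a⁻¹ = (R D a)⁻¹ := by
  have h := R_coe D (hc a ha)⁻¹
  rw [map_inv, ← R_coe D (hc a ha)] at h
  exact h

theorem R_one : R D (1 : G) = 1 := by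
  have h := R_coe D (1 : Subgroup.centralizer ({z} : Set G))
  rw [_root_.map_one] at h
  exact h

theorem R_up {x : G} (hx : x ∈ up Q) : R D x = 1 := by
  obtain ⟨y, hy, rfl⟩ := hx
  exact (R_coe D y).trans (D.rho_Q hy)

theorem mem_up_of_R {k : G} (hk : k * z = z * k) (h : R D k = 1) : k ∈ up Q := by
  refine ⟨hc k hk, ?_, rfl⟩
  have := (R_coe D (hc k hk)).symm.trans h
  exact D.ker.le (MonoidHom.mem_ker.2 this)

include D in
theorem z_mem_up : z ∈ up Q := ⟨zc z, D.zc_mem, rfl⟩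

theorem V_eq_zero {x : G} (hx : x ∈ up Q) : V D x = 0 ↔ x = 1 ∨ x = z := by
  obtain ⟨y, hy, rfl⟩ := hx
  rw [show V D ((Subgroup.centralizer ({z} : Set G)).subtype y) = D.Φ y from V_coe D y]
  exact D.eq_zero y hy

theorem V_z : V D z = 0 := (V_eq_zero D (z_mem_up D)).2 (Or.inr rfl)

theorem V_one : V D (1 : G) = 0 := (V_eq_zero D (one_mem _)).2 (Or.inl rfl)

theorem V_mul {x y : G} (hx : x ∈ up Q) (hy : y ∈ up Q) : V D (x * y) = V D x + V D y := by
  obtain ⟨a, ha, rfl⟩ := hx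
  obtain ⟨b, hb, rfl⟩ := hy
  have h := D.map_mul a ha b hb
  rw [← V_coe D (a * b), ← V_coe D a, ← V_coe D b] at h
  exact h

theorem V_surj (w : W) : ∃ x ∈ up Q, V D x = w := by
  obtain ⟨x, hx, e⟩ := D.surj w
  exact ⟨x, ⟨x, hx, rfl⟩, (V_coe D x).trans e⟩

theorem V_comm {x y : G} (hx : x ∈ up Q) (hy : y ∈ up Q) : x * y = y * x ↔ Bf (V D x) (V D y) = 0 := by
  obtain ⟨a, ha, rfl⟩ := hx
  obtain ⟨b, hb, rfl⟩ := hy
  show (a : G) * b = b * a ↔ Bf (V D (a : G)) (V D (b : G)) = 0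
  rw [V_coe, V_coe, ← D.comm a ha b hb, ← Subgroup.coe_mul, ← Subgroup.coe_mul, Subtype.coe_inj]

theorem V_sq {x : G} (hx : x ∈ up Q) : x * x = 1 ↔ qf (V D x) = 0 := by
  obtain ⟨a, ha, rfl⟩ := hx
  show (a : G) * a = 1 ↔ qf (V D (a : G)) = 0
  rw [V_coe, ← D.sq a ha, ← Subgroup.coe_mul, ← Subgroup.coe_one, Subtype.coe_inj]

theorem V_conj {k x : G} (hk : k * z = z * k) (hx : x ∈ up Q) :
    V D (k * x * k⁻¹) = R D k (V D x) := by
  obtain ⟨a, ha, rfl⟩ := hx
  have h := (V_coe D (hc k hk * a * (hc k hk)⁻¹)).trans (D.conj (hc k hk) a ha).symm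
  rw [← R_coe D (hc k hk), ← V_coe D a] at h
  exact h

theorem V_cases {x y : G} (hx : x ∈ up Q) (hy : y ∈ up Q) (e : V D x = V D y) : x = y ∨ x = y * z := by
  obtain ⟨a, ha, rfl⟩ := hx
  obtain ⟨b, hb, rfl⟩ := hy
  exact D.eq_or_mul ha hb ((V_coe D a).symm.trans (e.trans (V_coe D b)))

include D in
theorem z_mul_z : z * z = 1 := (V_sq D (z_mem_up D)).2 (by rw [V_z]; rfl)

include D in
theorem up_comm_cases {x y : G} (hx : x ∈ up Q) (hy : y ∈ up Q) :
    x * y = y * x ∨ x * y = y * x * z := by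
  refine V_cases D (mul_mem hx hy) (mul_mem hy hx) ?_
  rw [V_mul D hx hy, V_mul D hy hx, add_comm]

include D in
theorem Qc_comm_cases {g x y : G} (hx : x ∈ Qc Q g) (hy : y ∈ Qc Q g) :
    x * y = y * x ∨ x * y = y * x * (g * z * g⁻¹) := by
  rcases up_comm_cases D (mem_Qc.1 hx) (mem_Qc.1 hy) with h | h
  · left
    calc x * y = g * (g⁻¹ * x * g * (g⁻¹ * y * g)) * g⁻¹ := by group
      _ = g * (g⁻¹ * y * g * (g⁻¹ * x * g)) * g⁻¹ := by rw [h]
      _ = y * x := by group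
  · right
    calc x * y = g * (g⁻¹ * x * g * (g⁻¹ * y * g)) * g⁻¹ := by group
      _ = g * (g⁻¹ * y * g * (g⁻¹ * x * g) * z) * g⁻¹ := by rw [h]
      _ = y * x * (g * z * g⁻¹) := by group

theorem four_cases {a x : G} (ha : a ∈ up Q) (hx : x ∈ up Q) (h : V D x = 0 ∨ V D x = V D a) :
    x = 1 ∨ x = z ∨ x = a ∨ x = a * z := by
  rcases h with h | h
  · rcases (V_eq_zero D hx).1 h with e | e
    · exact Or.inl e
    · exact Or.inr (Or.inl e)
  · rcases V_cases D hx ha h with e | e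
    · exact Or.inr (Or.inr (Or.inl e))
    · exact Or.inr (Or.inr (Or.inr e))

theorem exists_mover {a : G} (ha : a ∈ up Q) (h : V D a ≠ 0) : ∃ q ∈ up Q, q * a * q⁻¹ = a * z := by
  obtain ⟨b, hb, rfl⟩ := ha
  obtain ⟨y, hy, e⟩ := D.conj_mul_z hb (fun e => h ((V_coe D b).trans e))
  exact ⟨y, ⟨y, hy, rfl⟩, congrArg Subtype.val e⟩

theorem R_add {k : G} (hk : k * z = z * k) (u v : W) : R D k (u + v) = R D k u + R D k v := by
  have h := D.rho_add (hc k hk) u v
  rw [← R_coe D (hc k hk)] at h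
  exact h

theorem R_lab {k : G} (hk : k * z = z * k) (v : W) : lab (R D k v) = lab v := by
  have h := D.rho_lab (hc k hk) v
  rw [← R_coe D (hc k hk)] at h
  exact h

theorem R_scal {k : G} (hk : k * z = z * k) :
    (∀ v, R D k (wW v) = wW (R D k v)) ∨ ∀ v, R D k (wW v) = wW (wW (R D k v)) := by
  have h := D.scal (hc k hk)
  rw [← R_coe D (hc k hk)] at h
  exact h

/-- The subgroup of index two inside the group. -/
abbrev upM : Subgroup G := D.M.map (Subgroup.centralizer ({z} : Set G)).subtype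

theorem upM_comm_z {k : G} (hk : k ∈ upM D) : k * z = z * k := by
  obtain ⟨y, -, rfl⟩ := hk
  exact Subgroup.mem_centralizer_singleton_iff.1 y.2

theorem R_upM {k : G} (hk : k ∈ upM D) : R D k ∈ K0 := by
  obtain ⟨y, hy, rfl⟩ := hk
  exact (R_coe D y).symm ▸ D.rho_mem y hy

theorem exists_upM {g : Equiv.Perm W} (hg : g ∈ K0) : ∃ k ∈ upM D, R D k = g := by
  obtain ⟨h, hh, e⟩ := D.exists_rho hg
  exact ⟨h, ⟨h, hh, rfl⟩, (R_coe D h).trans e⟩

theorem up_le_upM : up Q ≤ upM D := Subgroup.map_mono D.Q_le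

theorem upM_of_odd {k : G} (hk : k * z = z * k) {n : ℕ} (hn : n % 2 = 1) (h : k ^ n = 1) :
    k ∈ upM D := by
  refine ⟨hc k hk, ?_, rfl⟩
  by_contra hne
  have h2 : ∀ m : ℕ, hc k hk ^ m ∈ D.M ↔ m % 2 = 0 := by
    intro m
    induction m with
    | zero => simp
    | succ m ih =>
      rw [pow_succ, Subgroup.mul_mem_iff_of_index_two D.index_M, ih]
      constructor
      · intro e
        have : ¬ m % 2 = 0 := fun h0 => hne (e.1 h0)
        omega
      · intro e
        exact iff_of_false (by omega) hne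
  have e : hc k hk ^ n = 1 := Subtype.ext h
  have := (h2 n).1 (e.symm ▸ one_mem _)
  omega

theorem exists_conj_V {x y : G} (hx : x ∈ up Q) (hy : y ∈ up Q) (h : 2 ≤ lab (V D x))
    (e : lab (V D y) = lab (V D x)) : ∃ k, k * z = z * k ∧ k * x * k⁻¹ = y := by
  obtain ⟨a, ha, rfl⟩ := hx
  obtain ⟨b, hb, rfl⟩ := hy
  rw [show V D ((Subgroup.centralizer ({z} : Set G)).subtype a) = D.Φ a from V_coe D a] at h e
  rw [show V D ((Subgroup.centralizer ({z} : Set G)).subtype b) = D.Φ b from V_coe D b] at e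
  obtain ⟨k, hk⟩ := D.conj_of_lab ha hb h e
  exact ⟨k, Subgroup.mem_centralizer_singleton_iff.1 k.2, congrArg Subtype.val hk⟩

end H82.Fi24Cent
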