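import Cfsg.Agent.H82.Fi24Cent.Space
import Cfsg.Agent.H82.Fi24Cent.Local
import Cfsg.Agent.H16.Fi24.Anti

/-!
A pair of commuting conjugates of the central involution in standard position, and an element of
order three acting as the scalar.
-/

set_option autoImplicit false

namespace H82.Fi24Cent

open H16.Fi24 Cfsg

universe u

variable {G : Type u} [Group G] {z : G} {Q : Subgroup (Subgroup.centralizer ({z} : Set G))}
  [Q.Normal]

/-- The base vector and the cube root of unity. -/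
theorem v3_facts : lab v3 = 3 ∧ qf v3 = 0 ∧ v3 ≠ 0 ∧ wW v3 ≠ 0 ∧ wW v3 ≠ v3 ∧ wW (wW v3) ≠ 0 ∧
    wW (wW v3) ≠ v3 ∧ lab (wW v3) = 3 ∧ Bf v3 (wW v3) = 0 ∧ H16.Fi24.v3 = v3 := by decide +kernel

/-- The configuration: `a` a conjugate of `z` in standard position, `g` exchanging `a` and `z`, and
`x` an element of order three acting as the scalar and adapted to `a`. -/
structure Cfg (D : Model z Q) (x a g : G) : Prop where
  xz : x * z = z * x
  x3 : x ^ 3 = 1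
  xR : ∀ v, R D x v = wW v
  aup : a ∈ up Q
  aV : V D a = v3
  gz : g * z * g⁻¹ = a
  ga : g * a * g⁻¹ = z
  prod : a * (x * a * x⁻¹) * (x * (x * a * x⁻¹) * x⁻¹) = 1

variable [Finite G]

theorem exists_conj_vector (hF : IsOfLargeFischerTypeAt z Q) (D : Model z Q) :
    ∃ a ∈ up Q, V D a = v3 ∧ IsConj z a := by
  obtain ⟨a, ha, e⟩ := V_surj D v3
  obtain ⟨b, hb, rfl⟩ := ha
  refine ⟨_, ⟨b, hb, rfl⟩, e, ?_⟩
  rw [show V D ((Subgroup.centralizer ({z} : Set G)).subtype b) = D.Φ b from V_coe D b] at e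
  refine (isConj_iff_lab hF D hb ?_).2 (by rw [e]; exact v3_facts.1)
  intro h
  exact v3_facts.2.2.1 (e.symm.trans ((D.eq_zero b hb).2 (Or.inr h)))

theorem lab_conjugate (hF : IsOfLargeFischerTypeAt z Q) (D : Model z Q) {a : G} (ha : a ∈ up Q)
    (hc : IsConj z a) (hne : a ≠ z) : lab (V D a) = 3 := by
  obtain ⟨b, hb, rfl⟩ := ha
  rw [show V D ((Subgroup.centralizer ({z} : Set G)).subtype b) = D.Φ b from V_coe D b]
  exact lab_of_isConj hF D hb hc hne

theorem z_mem_Qc (hF : IsOfLargeFischerTypeAt z Q) {a g : G} (ha : a ∈ up Q) (hg : g * z * g⁻¹ = a)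
    (hne : a ≠ z) : z ∈ Qc Q g := by
  obtain ⟨b, hb, rfl⟩ := ha
  exact (fused hF hb hg hne).z_mem

theorem exists_swap (hF : IsOfLargeFischerTypeAt z Q) (D : Model z Q) {a : G} (ha : a ∈ up Q)
    (hc : IsConj z a) (hne : a ≠ z) : ∃ g, g * z * g⁻¹ = a ∧ g * a * g⁻¹ = z := by
  obtain ⟨g, hg⟩ := isConj_iff.1 hc
  have hm := mem_Qc.1 (z_mem_Qc hF ha hg hne)
  have hne' : g⁻¹ * z * g ≠ z := fun h => hne (by
    calc a = g * z * g⁻¹ := hg.symm
      _ = g * (g⁻¹ * z * g) * g⁻¹ := by rw [h]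
      _ = z := by group)
  have hl := lab_conjugate hF D hm (isConj_iff.2 ⟨g⁻¹, by group⟩) hne'
  have hla := lab_conjugate hF D ha hc hne
  obtain ⟨k, hkz, hk⟩ := exists_conj_V D ha hm (by omega) (hl.trans hla.symm)
  refine ⟨g * k, ?_, ?_⟩
  · rw [show g * k * z * (g * k)⁻¹ = g * (k * z * k⁻¹) * g⁻¹ by group, hkz, mul_inv_cancel_right, hg]
  · rw [show g * k * a * (g * k)⁻¹ = g * (k * a * k⁻¹) * g⁻¹ by group, hk]
    group

omit [Finite G] in
theorem conj_eq_comm {k p : G} (h : k * p = p * k) : k * p * k⁻¹ = p := by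
  rw [h, mul_inv_cancel_right]

theorem exists_cfg (hF : IsOfLargeFischerTypeAt z Q) (D : Model z Q) {x : G} (hxz : x * z = z * x)
    (h3 : x ^ 3 = 1) (hxR : ∀ v, R D x v = wW v) : ∃ a g, Cfg D x a g := by
  obtain ⟨a, ha, hv, hc⟩ := exists_conj_vector hF D
  have hsum : ∀ a ∈ up Q, V D a = v3 →
      a * (x * a * x⁻¹) * (x * (x * a * x⁻¹) * x⁻¹) ∈ up Q ∧
      V D (a * (x * a * x⁻¹) * (x * (x * a * x⁻¹) * x⁻¹)) = 0 := by
    intro a ha hv
    have h1 := up_conj hxz ha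
    have h2 := up_conj hxz h1
    refine ⟨mul_mem (mul_mem ha h1) h2, ?_⟩
    rw [V_mul D (mul_mem ha h1) h2, V_mul D ha h1, V_conj D hxz h1, V_conj D hxz ha, hxR, hxR, hv,
      wW_sum, add_comm (wW v3), two_w]
  obtain ⟨hm, h0⟩ := hsum a ha hv
  have fin : ∀ a ∈ up Q, V D a = v3 → IsConj z a →
      a * (x * a * x⁻¹) * (x * (x * a * x⁻¹) * x⁻¹) = 1 → ∃ a g, Cfg D x a g := by
    intro a ha hv hc hp
    have hne : a ≠ z := fun h => v3_facts.2.2.1 (by rw [← hv, h, V_z])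
    obtain ⟨g, hg, hg'⟩ := exists_swap hF D ha hc hne
    exact ⟨a, g, hxz, h3, hxR, ha, hv, hg, hg', hp⟩
  rcases (V_eq_zero D hm).1 h0 with h | h
  · exact fin a ha hv hc h
  · obtain ⟨q, hq, e⟩ := exists_mover D ha (by rw [hv]; exact v3_facts.2.2.1)
    have ha' : a * z ∈ up Q := mul_mem ha (z_mem_up D)
    refine fin (a * z) ha' (by rw [V_mul D ha (z_mem_up D), V_z, add_zero, hv])
      (hc.trans (isConj_iff.2 ⟨q, e⟩)) ?_
    have hz2 := z_mul_z D
    have hxzx : x * z * x⁻¹ = z := conj_eq_comm hxz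
    have c1 := up_comm_z (up_conj hxz ha)
    have c2 := up_comm_z (up_conj hxz (up_conj hxz ha))
    set y := x * a * x⁻¹ with hy
    set w := x * y * x⁻¹ with hw
    have e1 : x * (a * z) * x⁻¹ = y * z := by
      rw [show x * (a * z) * x⁻¹ = x * a * x⁻¹ * (x * z * x⁻¹) by group, hxzx]
    have e2 : x * (y * z) * x⁻¹ = w * z := by
      rw [show x * (y * z) * x⁻¹ = x * y * x⁻¹ * (x * z * x⁻¹) by group, hxzx]
    rw [e1, e2]
    calc a * z * (y * z) * (w * z) = a * (z * y) * (z * w) * z := by group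
      _ = a * (y * z) * (w * z) * z := by rw [c1, c2]
      _ = a * y * (z * w) * (z * z) := by group
      _ = a * y * w * z := by rw [← c2, hz2, mul_one]; group
      _ = 1 := by rw [h, hz2]

namespace Cfg

variable {D : Model z Q} {x a g : G} (C : Cfg D x a g)
include C

omit [Finite G]

/-- The image of `a` under the scalar. -/
theorem y_up : x * a * x⁻¹ ∈ up Q := up_conj C.xz C.aup

theorem y_V : V D (x * a * x⁻¹) = wW v3 := by rw [V_conj D C.xz C.aup, C.xR, C.aV]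

theorem w_V : V D (x * (x * a * x⁻¹) * x⁻¹) = wW (wW v3) := by
  rw [V_conj D C.xz C.y_up, C.xR, C.y_V]

theorem a_ne : a ≠ z := fun h => v3_facts.2.2.1 (by rw [← C.aV, h, V_z])

theorem a_conj : IsConj z a := isConj_iff.2 ⟨g, C.gz⟩

theorem y_eq : x * a * x⁻¹ = x * g * z * (x * g)⁻¹ := by rw [← C.gz]; group

theorem y_conj : IsConj z (x * a * x⁻¹) := isConj_iff.2 ⟨x * g, C.y_eq.symm⟩

theorem a_comm_y : a * (x * a * x⁻¹) = x * a * x⁻¹ * a :=
  (V_comm D C.aup C.y_up).2 (by rw [C.aV, C.y_V]; exact v3_facts.2.2.2.2.2.2.2.2.1)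

theorem a_comm_z : a * z = z * a := up_comm_z C.aup

theorem y_comm_z : x * a * x⁻¹ * z = z * (x * a * x⁻¹) := up_comm_z C.y_up

theorem a_sq : a * a = 1 := (V_sq D C.aup).2 (by rw [C.aV]; exact v3_facts.2.1)

theorem y_sq : x * a * x⁻¹ * (x * a * x⁻¹) = 1 := by
  rw [show x * a * x⁻¹ * (x * a * x⁻¹) = x * (a * a) * x⁻¹ by group, C.a_sq, mul_one, mul_inv_cancel]

theorem a_inv : a⁻¹ = a := inv_eq_of_mul_eq_one_right C.a_sq

theorem y_inv : (x * a * x⁻¹)⁻¹ = x * a * x⁻¹ := inv_eq_of_mul_eq_one_right C.y_sq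

theorem w_eq : x * (x * a * x⁻¹) * x⁻¹ = a * (x * a * x⁻¹) := by
  have h := eq_inv_of_mul_eq_one_right C.prod
  rw [mul_inv_rev, C.y_inv, C.a_inv, ← C.a_comm_y] at h
  exact h

theorem x_cube (p : G) : x * (x * (x * p * x⁻¹) * x⁻¹) * x⁻¹ = p := by
  rw [show x * (x * (x * p * x⁻¹) * x⁻¹) * x⁻¹ = x ^ 3 * p * (x ^ 3)⁻¹ by
    simp only [pow_succ, pow_zero, one_mul]; group, C.x3]
  group

theorem x_w : x * (a * (x * a * x⁻¹)) * x⁻¹ = a := by rw [← C.w_eq, C.x_cube]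

theorem g_inv_z : g⁻¹ * z * g = a := by
  calc g⁻¹ * z * g = g⁻¹ * (g * a * g⁻¹) * g := by rw [C.ga]
    _ = a := by group

theorem g_inv_a : g⁻¹ * a * g = z := by
  calc g⁻¹ * a * g = g⁻¹ * (g * z * g⁻¹) * g := by rw [C.gz]
    _ = z := by group

theorem z_Qa : z ∈ Qc Q g := mem_Qc.2 (C.g_inv_z.symm ▸ C.aup)

theorem a_Qa : a ∈ Qc Q g := C.gz ▸ Qc_self (z_mem_up D)

theorem comm_of_Qa {p : G} (hp : p ∈ Qc Q g) : p * a = a * p := C.gz ▸ Qc_comm hp

theorem conj_Qa {k p : G} (hk : k * a = a * k) (hp : p ∈ Qc Q g) : k * p * k⁻¹ ∈ Qc Q g :=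
  Qc_conj (by rw [C.gz]; exact hk) hp

theorem V_four {p : G} (hp : p = 1 ∨ p = z ∨ p = a ∨ p = a * z) :
    p ∈ up Q ∧ (V D p = 0 ∨ V D p = v3) := by
  rcases hp with h | h | h | h <;> subst h
  · exact ⟨one_mem _, Or.inl (V_one D)⟩
  · exact ⟨z_mem_up D, Or.inl (V_z D)⟩
  · exact ⟨C.aup, Or.inr C.aV⟩
  · exact ⟨mul_mem C.aup (z_mem_up D),
      Or.inr (by rw [V_mul D C.aup (z_mem_up D), V_z, add_zero, C.aV])⟩

/-- The third involution of the line lies in the conjugate of the extraspecial subgroup. -/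
theorem y_Qa : x * a * x⁻¹ ∈ Qc Q g := by
  set y := x * a * x⁻¹ with hy
  have hyup : y ∈ up Q := C.y_up
  set y' := g⁻¹ * y * g with hy'
  have hy'z : y' * z = z * y' := by
    calc y' * z = g⁻¹ * (y * (g * z * g⁻¹)) * g := by rw [hy']; group
      _ = g⁻¹ * (g * z * g⁻¹ * y) * g := by rw [C.gz, C.a_comm_y]
      _ = z * y' := by rw [hy']; group
  have key : ∀ u, Bf v3 u = 0 → R D y' u + u = 0 ∨ R D y' u + u = v3 := by
    intro u hu
    obtain ⟨q, hq, rfl⟩ := V_surj D u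
    have hqa : q * a = a * q := ((V_comm D C.aup hq).2 (by rw [C.aV]; exact hu)).symm
    set r := g * q * g⁻¹ with hr
    have hrz : r * z = z * r := by
      calc r * z = g * (q * a) * g⁻¹ := by rw [hr, ← C.ga]; group
        _ = g * (a * q) * g⁻¹ := by rw [hqa]
        _ = z * r := by rw [hr, ← C.ga]; group
    have hra : r * a = a * r := by
      calc r * a = g * (q * z) * g⁻¹ := by rw [hr, ← C.gz]; group
        _ = g * (z * q) * g⁻¹ := by rw [up_comm_z hq]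
        _ = a * r := by rw [hr, ← C.gz]; group
    have hfix : R D r v3 = v3 := by rw [← C.aV, ← V_conj D hrz C.aup, conj_eq_comm hra]
    have hyV : V D (r * y * r⁻¹ * y⁻¹) = 0 ∨ V D (r * y * r⁻¹ * y⁻¹) = v3 := by
      rw [C.y_inv, V_mul D (up_conj hrz hyup) hyup, V_conj D hrz hyup, C.y_V]
      rcases R_scal D hrz with h | h
      · rw [h, hfix]; exact Or.inl (two_w _)
      · rw [h, hfix, wW_sum]
        exact Or.inr (by rw [add_comm (wW v3), add_assoc, two_w, add_zero])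
    have hm : r * y * r⁻¹ * y⁻¹ ∈ up Q := mul_mem (up_conj hrz hyup) (inv_mem hyup)
    have hfour := four_cases D C.aup hm (by rw [C.aV]; exact hyV)
    have hback : q * y' * q⁻¹ * y'⁻¹ = g⁻¹ * (r * y * r⁻¹ * y⁻¹) * g := by rw [hy', hr]; group
    have hcases : q * y' * q⁻¹ * y'⁻¹ = 1 ∨ q * y' * q⁻¹ * y'⁻¹ = z ∨ q * y' * q⁻¹ * y'⁻¹ = a ∨
        q * y' * q⁻¹ * y'⁻¹ = a * z := by
      rw [hback]
      rcases hfour with h | h | h | h <;> rw [h]
      · exact Or.inl (by group)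
      · exact Or.inr (Or.inr (Or.inl C.g_inv_z))
      · exact Or.inr (Or.inl C.g_inv_a)
      · refine Or.inr (Or.inr (Or.inr ?_))
        rw [show g⁻¹ * (a * z) * g = g⁻¹ * a * g * (g⁻¹ * z * g) by group, C.g_inv_a, C.g_inv_z,
          C.a_comm_z]
    obtain ⟨-, h4⟩ := C.V_four hcases
    have hqi : V D q⁻¹ = V D q := by
      have h := V_mul D hq (inv_mem hq)
      rw [mul_inv_cancel, V_one] at h
      rw [← zero_add (V D q⁻¹), ← two_w (V D q), add_assoc, ← h, add_zero]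
    rw [show q * y' * q⁻¹ * y'⁻¹ = q * (y' * q⁻¹ * y'⁻¹) by group,
      V_mul D hq (up_conj hy'z (inv_mem hq)), V_conj D hy'z (inv_mem hq), hqi, add_comm] at h4
    exact h4
  rcases R_scal D hy'z with h | h
  · refine mem_Qc.2 (mem_up_of_R D hy'z (Equiv.ext fun u => ?_))
    exact eq_id_of_linear (R_add D hy'z) h (R_lab D hy'z) key u
  · exact (false_of_anti h key).elim

theorem ne_four : x * a * x⁻¹ ≠ 1 ∧ x * a * x⁻¹ ≠ z ∧ x * a * x⁻¹ ≠ a ∧ x * a * x⁻¹ ≠ a * z := by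
  have hn : V D (x * a * x⁻¹) ≠ 0 ∧ V D (x * a * x⁻¹) ≠ v3 := by
    rw [C.y_V]; exact ⟨v3_facts.2.2.2.1, v3_facts.2.2.2.2.1⟩
  refine ⟨fun h => ?_, fun h => ?_, fun h => ?_, fun h => ?_⟩ <;> rw [h] at hn
  · exact hn.1 (V_one D)
  · exact hn.1 (V_z D)
  · exact hn.2 C.aV
  · exact hn.2 (by rw [V_mul D C.aup (z_mem_up D), V_z, add_zero, C.aV])

end Cfg

end H82.Fi24Cent
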