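import Cfsg.Agent.H82.Fi24Cent.Config

/-!
The intersection of the extraspecial subgroup with its conjugate: invariant vectors and commutators.
-/

set_option autoImplicit false

namespace H82.Fi24Cent

open H16.Fi24 Cfsg

universe u

variable {G : Type u} [Group G] {z : G} {Q : Subgroup (Subgroup.centralizer ({z} : Set G))}
  [Q.Normal]

/-- The intersection. -/
abbrev Agrp (Q : Subgroup (Subgroup.centralizer ({z} : Set G))) (g : G) : Subgroup G := up Q ⊓ Qc Q g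

/-- Commutators of the intersection with the common centraliser, together with `z` and `a`. -/
def gam (Q : Subgroup (Subgroup.centralizer ({z} : Set G))) (x a g : G) : Subgroup G :=
  Subgroup.closure ({d | ∃ k p, k * z = z * k ∧ k * a = a * k ∧
    k * (x * a * x⁻¹) = x * a * x⁻¹ * k ∧ p ∈ Agrp Q g ∧ d = k * p * k⁻¹ * p⁻¹} ∪ {z, a})

/-- The vectors of the intersection. -/
def U (D : Model z Q) (g : G) : AddSubgroup W where
  carrier := {u | ∃ p ∈ Agrp Q g, V D p = u}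
  zero_mem' := ⟨1, one_mem _, V_one D⟩
  add_mem' := by
    rintro u v ⟨p, hp, rfl⟩ ⟨p', hp', rfl⟩
    exact ⟨p * p', mul_mem hp hp', V_mul D hp.1 hp'.1⟩
  neg_mem' := by
    rintro u ⟨p, hp, rfl⟩
    exact ⟨p, hp, (neg_eq_of_add_eq_zero_left (two_w _)).symm⟩

namespace Cfg

variable {D : Model z Q} {x a g : G} (C : Cfg D x a g)
include C

theorem A_z : z ∈ Agrp Q g := ⟨z_mem_up D, C.z_Qa⟩

theorem A_a : a ∈ Agrp Q g := ⟨C.aup, C.a_Qa⟩

theorem A_conj {k p : G} (hkz : k * z = z * k) (hka : k * a = a * k) (hp : p ∈ Agrp Q g) :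
    k * p * k⁻¹ ∈ Agrp Q g := ⟨up_conj hkz hp.1, C.conj_Qa hka hp.2⟩

theorem x_inv_z : x⁻¹ * z = z * x⁻¹ := by
  calc x⁻¹ * z = x⁻¹ * (z * x) * x⁻¹ := by group
    _ = x⁻¹ * (x * z) * x⁻¹ := by rw [C.xz]
    _ = z * x⁻¹ := by group

theorem mem_Qy {p : G} : p ∈ Qc Q (x * g) ↔ x⁻¹ * p * x ∈ Qc Q g := by
  rw [mem_Qc, mem_Qc, show (x * g)⁻¹ * p * (x * g) = g⁻¹ * (x⁻¹ * p * x) * g by group]

theorem mem_A' {p : G} : p ∈ Agrp Q (x * g) ↔ x⁻¹ * p * x ∈ Agrp Q g := by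
  rw [Subgroup.mem_inf, Subgroup.mem_inf, C.mem_Qy]
  refine and_congr_left fun _ => ⟨fun h => ?_, fun h => ?_⟩
  · have := up_conj C.x_inv_z h
    rwa [inv_inv] at this
  · have := up_conj C.xz h
    rwa [show x * (x⁻¹ * p * x) * x⁻¹ = p by group] at this

theorem V_inv {q : G} (hq : q ∈ up Q) : V D q⁻¹ = V D q := by
  have h := V_mul D hq (inv_mem hq)
  rw [mul_inv_cancel, V_one] at h
  rw [← zero_add (V D q⁻¹), ← two_w (V D q), add_assoc, ← h, add_zero]

/-- An element of `up Q` centralising `x` is `1` or `z`. -/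
theorem cent_up {q : G} (hq : q ∈ up Q) (h : q * x = x * q) : q = 1 ∨ q = z := by
  refine (V_eq_zero D hq).1 ?_
  have e := V_conj D C.xz hq
  rw [conj_eq_comm h.symm, C.xR] at e
  have key : ∀ w : W, w = wW w → w = 0 := fun w hw => by
    have h2 : wW (wW w) = wW w + w := wW_sum w
    rw [← hw, ← hw, two_w] at h2
    exact h2
  exact key _ e

theorem exists_cent {k : G} (hk : k ∈ upM D) : ∃ c ∈ upM D, c * x = x * c ∧ R D c = R D k := by
  have hkz := upM_comm_z D hk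
  set x' := k * x * k⁻¹ with hx'
  have hx'z : x' * z = z * x' := by
    have h1 : k⁻¹ * z = z * k⁻¹ := upM_comm_z D (inv_mem hk)
    calc x' * z = k * x * (k⁻¹ * z) := by rw [hx']; group
      _ = k * (x * z) * k⁻¹ := by rw [h1]; group
      _ = k * z * x * k⁻¹ := by rw [C.xz]; group
      _ = z * x' := by rw [hkz, hx']; group
  have hR : R D x' = R D x := by
    refine Equiv.ext fun v => ?_
    rw [hx', show k * x * k⁻¹ = k * (x * k⁻¹) by group,
      R_mul D hkz (by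
        calc x * k⁻¹ * z = x * (k⁻¹ * z) := by group
          _ = x * z * k⁻¹ := by rw [upM_comm_z D (inv_mem hk)]; group
          _ = z * (x * k⁻¹) := by rw [C.xz]; group),
      R_mul D C.xz (upM_comm_z D (inv_mem hk)), R_inv D hkz, Equiv.Perm.mul_apply,
      Equiv.Perm.mul_apply, C.xR, (isUni_K0 (R_upM D hk)).wcomm, C.xR]
    simp
  have hq : x⁻¹ * x' ∈ up Q := by
    refine mem_up_of_R D ?_ ?_
    · calc x⁻¹ * x' * z = x⁻¹ * (x' * z) := by group
        _ = x⁻¹ * z * x' := by rw [hx'z]; group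
        _ = z * (x⁻¹ * x') := by rw [C.x_inv_z]; group
    · rw [R_mul D C.x_inv_z hx'z, R_inv D C.xz, hR, inv_mul_cancel]
  obtain ⟨q, hqu, he⟩ := V_surj D (wW (wW (V D (x⁻¹ * x'))))
  have hm : x⁻¹ * q * x * q⁻¹ ∈ up Q := by
    refine mul_mem ?_ (inv_mem hqu)
    have := up_conj C.x_inv_z hqu
    rwa [inv_inv] at this
  have hV : V D (x⁻¹ * q * x * q⁻¹) = V D (x⁻¹ * x') := by
    have h1 := up_conj C.x_inv_z hqu
    have h2 := V_conj D C.x_inv_z hqu
    have hx1 : ∀ v, R D x⁻¹ v = wW (wW v) := fun v => by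
      have e1 : R D x (R D x⁻¹ v) = v := by rw [R_inv D C.xz]; simp
      rw [C.xR] at e1
      conv_rhs => rw [← e1]
      rw [wW_cube]
    rw [inv_inv] at h1 h2
    rw [V_mul D h1 (inv_mem hqu), h2, hx1, C.V_inv hqu, he, wW_cube, wW_sum, ← add_assoc, two_w,
      zero_add]
  have hx'3 : x' ^ 3 = 1 := by rw [hx', conj_pow, C.x3]; group
  have hkey : q * x * q⁻¹ = x' := by
    rcases V_cases D hm hq hV with e | e
    · calc q * x * q⁻¹ = x * (x⁻¹ * q * x * q⁻¹) := by group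
        _ = x' := by rw [e]; group
    · exfalso
      have e2 : q * x * q⁻¹ = x' * z := by
        calc q * x * q⁻¹ = x * (x⁻¹ * q * x * q⁻¹) := by group
          _ = x' * z := by rw [e]; group
      have h3 : (q * x * q⁻¹) ^ 3 = 1 := by rw [conj_pow, C.x3]; group
      rw [e2, (show Commute x' z from hx'z).mul_pow, hx'3, one_mul,
        show (3 : ℕ) = 2 + 1 from rfl, pow_succ, pow_two, z_mul_z D, one_mul] at h3
      exact C.a_ne (by rw [← C.gz, h3]; group)
  have hqz := up_comm_z (inv_mem hqu)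
  refine ⟨q⁻¹ * k, mul_mem (up_le_upM D (inv_mem hqu)) hk, ?_, ?_⟩
  · have hk' : k * x = x' * k := by rw [hx']; group
    calc q⁻¹ * k * x = q⁻¹ * (k * x) := by group
      _ = q⁻¹ * x' * k := by rw [hk']; group
      _ = x * (q⁻¹ * k) := by rw [← hkey]; group
  · rw [R_mul D hqz hkz, R_up D (inv_mem hqu), one_mul]

theorem fix_a {c : G} (hcz : c * z = z * c) (hcx : c * x = x * c) (hv : R D c v3 = v3) :
    c * a = a * c ∧ c * (x * a * x⁻¹) = x * a * x⁻¹ * c := by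
  have key : ∀ e, c * a * c⁻¹ = e → c * (x * a * x⁻¹) * c⁻¹ = x * e * x⁻¹ := fun e he => by
    calc c * (x * a * x⁻¹) * c⁻¹ = c * x * a * (c * x)⁻¹ := by group
      _ = x * c * a * (x * c)⁻¹ := by rw [hcx]
      _ = x * (c * a * c⁻¹) * x⁻¹ := by group
      _ = x * e * x⁻¹ := by rw [he]
  have hV : V D (c * a * c⁻¹) = V D a := by rw [V_conj D hcz C.aup, C.aV, hv]
  rcases V_cases D (up_conj hcz C.aup) C.aup hV with h | h
  · exact ⟨mul_inv_eq_iff_eq_mul.1 h, mul_inv_eq_iff_eq_mul.1 (key a h)⟩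
  · exfalso
    have hy := key _ h
    have hxzx : x * z * x⁻¹ = z := conj_eq_comm C.xz
    rw [show x * (a * z) * x⁻¹ = x * a * x⁻¹ * (x * z * x⁻¹) by group, hxzx] at hy
    set y := x * a * x⁻¹ with hyd
    have hw1 : c * (a * y) * c⁻¹ = x * (c * y * c⁻¹) * x⁻¹ := by
      rw [← C.w_eq, ← hyd]
      calc c * (x * y * x⁻¹) * c⁻¹ = c * x * y * (c * x)⁻¹ := by group
        _ = x * c * y * (x * c)⁻¹ := by rw [hcx]
        _ = x * (c * y * c⁻¹) * x⁻¹ := by group
    have hw2 : c * (a * y) * c⁻¹ = a * y := by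
      rw [show c * (a * y) * c⁻¹ = c * a * c⁻¹ * (c * y * c⁻¹) by group, h, hy]
      rw [mul_assoc a z, ← mul_assoc z y, show z * y = y * z from C.y_comm_z.symm, mul_assoc y z,
        z_mul_z D, mul_one]
    rw [hw2, hy, show x * (y * z) * x⁻¹ = x * y * x⁻¹ * (x * z * x⁻¹) by group, hxzx,
      hyd, C.w_eq] at hw1
    exact C.a_ne (by rw [← C.gz, mul_eq_left.1 hw1.symm]; group)

theorem exists_lift {s : Equiv.Perm W} (hs : s ∈ K0stab v3) :
    ∃ c ∈ upM D, c * x = x * c ∧ c * a = a * c ∧ c * (x * a * x⁻¹) = x * a * x⁻¹ * c ∧ R D c = s := by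
  obtain ⟨hs0, hsv⟩ := mem_K0stab.1 hs
  obtain ⟨k, hk, rfl⟩ := exists_upM D hs0
  obtain ⟨c, hc, hcx, e⟩ := C.exists_cent hk
  obtain ⟨h1, h2⟩ := C.fix_a (upM_comm_z D hc) hcx (by rw [e]; exact hsv)
  exact ⟨c, hc, hcx, h1, h2, e⟩

/-- The line through `a` and its image. -/
theorem F_cases {p : G} (hp : p ∈ up Q) (h : inL (V D p)) :
    ∃ f, (f = 1 ∨ f = a ∨ f = x * a * x⁻¹ ∨ f = a * (x * a * x⁻¹)) ∧ (p = f ∨ p = f * z) := by
  rcases h with h | h | h | h
  · exact ⟨1, Or.inl rfl, V_cases D hp (one_mem _) (h.trans (V_one D).symm)⟩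
  · exact ⟨a, Or.inr (Or.inl rfl), V_cases D hp C.aup (h.trans C.aV.symm)⟩
  · exact ⟨_, Or.inr (Or.inr (Or.inl rfl)), V_cases D hp C.y_up (h.trans C.y_V.symm)⟩
  · refine ⟨_, Or.inr (Or.inr (Or.inr rfl)), V_cases D hp (mul_mem C.aup C.y_up) ?_⟩
    rw [h, V_mul D C.aup C.y_up, C.aV, C.y_V, wW_sum, add_comm]

variable [Finite G] (hF : IsOfLargeFischerTypeAt z Q)
include hF

theorem A_y : x * a * x⁻¹ ∈ Agrp Q g := ⟨C.y_up, C.y_Qa⟩

theorem A_abelian {p p' : G} (hp : p ∈ Agrp Q g) (hp' : p' ∈ Agrp Q g) : p * p' = p' * p := by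
  obtain ⟨b, hb, e⟩ := C.aup
  subst e
  have h := (fused hF hb C.gz C.a_ne).inf_elem.1
  exact congrArg Subtype.val (h.is_comm.comm ⟨p, hp⟩ ⟨p', hp'⟩)

theorem A_card : Nat.card (Agrp Q g) = 2 ^ 7 := by
  obtain ⟨b, hb, e⟩ := C.aup
  subst e
  refine ((fused hF hb C.gz C.a_ne).image_struct D hb ?_).2.2.1
  have h := C.aV
  rw [show V D ((Subgroup.centralizer ({z} : Set G)).subtype b) = D.Φ b from V_coe D b] at h
  rw [h, v3_facts.2.2.2.2.2.2.2.2.2]

theorem inL_U {u : W} (h : inL u) : u ∈ (U D g) := by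
  have ha : v3 ∈ (U D g) := ⟨a, C.A_a, C.aV⟩
  have hy : wW v3 ∈ (U D g) := ⟨_, C.A_y hF, C.y_V⟩
  rcases h with h | h | h | h <;> subst h
  · exact zero_mem _
  · exact ha
  · exact hy
  · rw [wW_sum]; exact add_mem hy ha

omit hF in
theorem U_inv {s : Equiv.Perm W} (hs : s ∈ K0stab v3) {u : W} (hu : u ∈ (U D g)) : s u ∈ (U D g) := by
  obtain ⟨c, hc, -, hca, -, rfl⟩ := C.exists_lift hs
  obtain ⟨p, hp, rfl⟩ := hu
  exact ⟨_, C.A_conj (upM_comm_z D hc) hca hp, V_conj D (upM_comm_z D hc) hp.1⟩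

theorem U_iso {u v : W} (hu : u ∈ (U D g)) (hv : v ∈ (U D g)) : Bf u v = 0 := by
  obtain ⟨p, hp, rfl⟩ := hu
  obtain ⟨p', hp', rfl⟩ := hv
  exact (V_comm D hp.1 hp'.1).1 (C.A_abelian hF hp hp')

theorem U_perph {u : W} (hu : u ∈ (U D g)) : perph u :=
  ⟨C.U_iso hF ⟨a, C.A_a, C.aV⟩ hu, by
    have h2 : wW (wW v3) ∈ (U D g) := C.inL_U hF (Or.inr (Or.inr (Or.inr rfl)))
    rw [← Bf_wW v3, ← Bf_wW (wW v3), wW_cube]
    exact C.U_iso hF h2 hu⟩

theorem U_not_inL : ∃ u ∈ (U D g), ¬ inL u := by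
  classical
  by_contra hn
  push Not at hn
  set y := x * a * x⁻¹ with hy
  let S : Finset G := {1, z, a, a * z, y, y * z, a * y, a * y * z}
  have hsub : (Agrp Q g : Set G) ⊆ (S : Set G) := by
    intro p hp
    obtain ⟨f, hf, hpf⟩ := C.F_cases (Subgroup.mem_inf.1 hp).1 (hn _ ⟨p, hp, rfl⟩)
    simp only [S, Finset.coe_insert, Finset.coe_singleton, Set.mem_insert_iff, Set.mem_singleton_iff]
    rcases hf with rfl | rfl | rfl | rfl <;> rcases hpf with rfl | rfl <;> simp [hy]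
  have hins : ∀ (t : Finset G) (b : G) (n : ℕ), t.card ≤ n → (insert b t).card ≤ n + 1 := fun t b n h =>
    (Finset.card_insert_le b t).trans (by omega)
  have h8 : S.card ≤ 8 :=
    hins _ _ 7 (hins _ _ 6 (hins _ _ 5 (hins _ _ 4 (hins _ _ 3 (hins _ _ 2 (hins _ _ 1
      (Finset.card_singleton _).le))))))
  have := Set.ncard_le_ncard hsub S.finite_toSet
  rw [Set.ncard_coe_finset, ← Nat.card_coe_set_eq] at this
  have hc := C.A_card hF
  simp only [SetLike.coe_sort_coe] at this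
  omega

/-- A multiple of the second base vector is a vector of the intersection. -/
theorem exists_U_w2 : w2 ∈ (U D g) ∨ wW w2 ∈ (U D g) ∨ wW (wW w2) ∈ (U D g) := by
  obtain ⟨u, hu, hn⟩ := C.U_not_inL hF
  exact descend (U D g) (fun _ => C.U_inv stA_mem) (fun _ => C.U_inv stB_mem) (fun _ => C.U_inv stC_mem)
    (fun _ => C.inL_U hF) hu (C.U_perph hF hu) hn

/-- The intersection of the vector space with its image under the scalar is the base line. -/
theorem inL_of_both {u : W} (hu : u ∈ (U D g)) (hu' : wW (wW u) ∈ (U D g)) : inL u := by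
  by_contra hn
  let J : AddSubgroup W :=
    { carrier := {v | v ∈ (U D g) ∧ wW (wW v) ∈ (U D g)}
      zero_mem' := ⟨zero_mem _, by rw [wW_zero, wW_zero]; exact zero_mem _⟩
      add_mem' := fun {s t} hs ht => ⟨add_mem hs.1 ht.1, by
        rw [wW_add, wW_add]; exact add_mem hs.2 ht.2⟩
      neg_mem' := fun {s} hs => by
        rw [neg_eq_of_add_eq_zero_left (two_w s)]; exact hs }
  have hinv : ∀ s ∈ K0stab v3, ∀ v ∈ J, s v ∈ J := fun s hs v hv =>
    ⟨C.U_inv hs hv.1, by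
      have hw := (isUni_K0 (mem_K0stab.1 hs).1).wcomm
      rw [← hw, ← hw]; exact C.U_inv hs hv.2⟩
  have hJw : ∀ v ∈ J, wW v ∈ J := fun v hv =>
    ⟨by rw [show wW v = wW (wW v) + v by rw [wW_sum, add_assoc, two_w, add_zero]]
        exact add_mem hv.2 hv.1, by rw [wW_cube]; exact hv.1⟩
  have hinL : ∀ v, inL v → v ∈ J := fun v hv => ⟨C.inL_U hF hv, C.inL_U hF (by
    obtain ⟨b, rfl⟩ := inL_cases hv
    rw [wW, wW, sm_sm, sm_sm]; exact sm_v3_cases _)⟩
  have h2 : w2 ∈ J := by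
    rcases descend J (hinv _ stA_mem) (hinv _ stB_mem) (hinv _ stC_mem) hinL (u := u) ⟨hu, hu'⟩
        (C.U_perph hF hu) hn with h | h | h
    · exact h
    · have := hJw _ (hJw _ h); rwa [wW_cube] at this
    · have := hJw _ h; rwa [wW_cube] at this
  have hA := hinv _ stA_mem _ h2
  rw [stA_eq, diff_ok.1] at hA
  have hB := hinv _ stA_mem _ hA
  rw [stA_eq, diff_ok.2.1] at hB
  have := C.U_iso hF h2.1 (hJw _ hB).1
  rw [not_isotropic.2.2] at this
  exact one_ne_zero this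

/-- The vector space and its image under the scalar span the orthogonal space. -/
theorem exists_decomp {u : W} (hu : perph u) : ∃ u1 ∈ (U D g), ∃ u2 ∈ (U D g), u = u1 + wW u2 := by
  let S : AddSubgroup W :=
    { carrier := {v | ∃ u1 ∈ (U D g), ∃ u2 ∈ (U D g), v = u1 + wW u2}
      zero_mem' := ⟨0, zero_mem _, 0, zero_mem _, by rw [wW_zero, add_zero]⟩
      add_mem' := by
        rintro s t ⟨a1, h1, a2, h2, rfl⟩ ⟨b1, k1, b2, k2, rfl⟩
        exact ⟨a1 + b1, add_mem h1 k1, a2 + b2, add_mem h2 k2, by rw [wW_add]; abel⟩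
      neg_mem' := fun {s} hs => by
        rw [neg_eq_of_add_eq_zero_left (two_w s)]; exact hs }
  have hinv : ∀ s ∈ K0stab v3, ∀ v ∈ S, s v ∈ S := by
    rintro s hs v ⟨a1, h1, a2, h2, rfl⟩
    have hU := isUni_K0 (mem_K0stab.1 hs).1
    exact ⟨s a1, C.U_inv hs h1, s a2, C.U_inv hs h2, by rw [hU.add, hU.wcomm]⟩
  have hSw : ∀ v ∈ S, wW v ∈ S := by
    rintro v ⟨a1, h1, a2, h2, rfl⟩
    exact ⟨a2, h2, a1 + a2, add_mem h1 h2, by rw [wW_add, wW_add, wW_sum]; abel⟩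
  have hUS : ∀ v ∈ (U D g), v ∈ S := fun v hv => ⟨v, hv, 0, zero_mem _, by rw [wW_zero, add_zero]⟩
  have hsm : ∀ (b : F4), ∀ v ∈ S, sm b v ∈ S := by
    intro b v hv
    rcases (show b = 0 ∨ b = (1, 0) ∨ b = (0, 1) ∨ b = (1, 1) by revert b; decide) with
      rfl | rfl | rfl | rfl
    · rw [sm_zero]; exact zero_mem _
    · rw [sm_one]; exact hv
    · exact hSw _ hv
    · rw [show ((1, 1) : F4) = mu (0, 1) (0, 1) by decide, ← sm_sm]; exact hSw _ (hSw _ hv)
  have h2 : w2 ∈ S := by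
    rcases C.exists_U_w2 hF with h | h | h
    · exact hUS _ h
    · have := hSw _ (hSw _ (hUS _ h)); rwa [wW_cube] at this
    · have := hSw _ (hUS _ h); rwa [wW_cube] at this
  have hA := hinv _ stA_mem _ h2
  rw [stA_eq, diff_ok.1] at hA
  have hB := hinv _ stA_mem _ hA
  rw [stA_eq, diff_ok.2.1] at hB
  have hC := hinv _ stB_mem _ hA
  rw [stB_eq, w2c_ok] at hC
  rw [← perph_span u hu]
  exact add_mem (add_mem (add_mem (add_mem (hsm _ _ (hUS _ ⟨a, C.A_a, C.aV⟩)) (hsm _ _ h2))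
    (hsm _ _ hA)) (hsm _ _ hB)) (hsm _ _ hC)

/-- The third involution of the line is a product of commutators with the intersection and the
elements `z`, `a`. -/
theorem y_mem_gam : x * a * x⁻¹ ∈ gam Q x a g := by
  let T : AddSubgroup W :=
    { carrier := {v | ∃ p, p ∈ gam Q x a g ∧ p ∈ up Q ∧ V D p = v}
      zero_mem' := ⟨1, one_mem _, one_mem _, V_one D⟩
      add_mem' := by
        rintro s t ⟨p, hp, hp', rfl⟩ ⟨q, hq, hq', rfl⟩
        exact ⟨p * q, mul_mem hp hq, mul_mem hp' hq', V_mul D hp' hq'⟩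
      neg_mem' := fun {s} hs => by
        rw [neg_eq_of_add_eq_zero_left (two_w s)]; exact hs }
  have hdiff : ∀ (s : Equiv.Perm W) (M : Fin 6 → W), (∀ v, s v = mat M v) → s ∈ K0stab v3 →
      ∀ u ∈ (U D g), mat M u + u ∈ T := by
    intro s M he hs u hu
    obtain ⟨c, hc, -, hca, hcy, rfl⟩ := C.exists_lift hs
    obtain ⟨p, hp, rfl⟩ := hu
    have hcp := C.A_conj (upM_comm_z D hc) hca hp
    refine ⟨c * p * c⁻¹ * p⁻¹, Subgroup.subset_closure (Or.inl ⟨c, p, upM_comm_z D hc, hca, hcy, hp, rfl⟩),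
      mul_mem hcp.1 (inv_mem hp.1), ?_⟩
    rw [V_mul D hcp.1 (inv_mem hp.1), C.V_inv hp.1, V_conj D (upM_comm_z D hc) hp.1, he]
  have hv : v3 ∈ T := ⟨a, Subgroup.subset_closure (Or.inr (by simp)), C.aup, C.aV⟩
  have hU : ∀ M : Fin 6 → W, ∀ v, mat M (wW v) = wW (mat M v) := fun M v => mat_sm M _ v
  obtain ⟨d1, d2, d3, d4⟩ := diff_ok
  have main : ∀ l : W → W, (∀ s t, l (s + t) = l s + l t) →
      (∀ M : Fin 6 → W, ∀ v, mat M (l v) = l (mat M v)) → l w2 ∈ (U D g) →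
      l (wW v3) ∈ T ∧ l v3 ∈ T := by
    intro l hl hlM h0
    have h1 : l w2a ∈ (U D g) := by
      have := C.U_inv stA_mem h0
      rwa [stA_eq, hlM, d1] at this
    have h2 : l w2b ∈ (U D g) := by
      have := C.U_inv stA_mem h1
      rwa [stA_eq, hlM, d2] at this
    have e : ∀ M u, mat M (l u) + l u = l (mat M u + u) := fun M u => by rw [hlM, hl]
    have a0 := e stAM w2 ▸ hdiff stA stAM stA_eq stA_mem _ h0
    have a1 := e stBM w2a ▸ hdiff stB stBM stB_eq stB_mem _ h1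
    have a2 := e stBM w2b ▸ hdiff stB stBM stB_eq stB_mem _ h2
    have a3 := e stDM w2b ▸ hdiff stD stDM stD_eq stD_mem _ h2
    refine ⟨?_, ?_⟩
    · rw [d3, hl, hl]; exact add_mem (add_mem a0 a1) a2
    · rw [d4, hl]; exact add_mem a2 a3
  have hy : wW v3 ∈ T := by
    rcases C.exists_U_w2 hF with h | h | h
    · exact (main id (fun _ _ => rfl) (fun _ _ => rfl) h).1
    · exact (main wW wW_add (hU) h).2
    · have h2 := (main (fun v => wW (wW v)) (fun s t => by rw [wW_add, wW_add])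
        (fun M v => by rw [hU, hU]) h).2
      rw [wW_sum] at h2
      have := add_mem h2 hv
      rwa [add_assoc, two_w, add_zero] at this
  obtain ⟨p, hp, hpu, e⟩ := hy
  rcases V_cases D C.y_up hpu (C.y_V.trans e.symm) with h | h
  · rw [h]; exact hp
  · rw [h]; exact mul_mem hp (Subgroup.subset_closure (Or.inr (by simp)))

end Cfg

end H82.Fi24Cent
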