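import Cfsg.Agent.H82.Fi24Cent.Transport
import Cfsg.Agent.H50.Simple
import Cfsg.Agent.H81.U43.Bound

/-!
The centraliser of the element of order three is quasisimple with centre of order six.
-/

set_option autoImplicit false

namespace H82.Fi24Cent

open H16.Fi24 Cfsg

universe u v

theorem center_simple {P : Type v} [Group P] [IsSimpleGroup P] (hP : commutator P = ⊤) :
    Subgroup.center P = ⊥ := by
  rcases Subgroup.Normal.eq_bot_or_eq_top (H := Subgroup.center P) inferInstance with h | h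
  · exact h
  · exfalso
    have h1 : commutator P = ⊥ := by
      rw [_root_.commutator_def, Subgroup.commutator_eq_bot_iff_le_centralizer,
        Subgroup.coe_top, Subgroup.centralizer_univ, h]
    exact bot_ne_top (h1.symm.trans hP)

theorem quasi_of {C : Type u} [Group C] {P : Type v} [Group P] [IsSimpleGroup P]
    (hP : commutator P = ⊤) (θ : C →* P) (hs : Function.Surjective θ)
    (hc : θ.ker ≤ Subgroup.center C) (hd : θ.ker ≤ commutator C) :
    Cfsg.IsQuasisimple C ∧ Subgroup.center C = θ.ker ∧ Nonempty (C ⧸ Subgroup.center C ≃* P) := by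
  have hperf : commutator C = ⊤ := by
    rw [eq_top_iff]
    intro c _
    have hm : θ c ∈ (commutator C).map θ := by
      rw [map_commutator_eq, MonoidHom.range_eq_top.2 hs, ← _root_.commutator_def, hP]
      exact Subgroup.mem_top _
    obtain ⟨d, hd', e⟩ := hm
    have := mul_mem hd' (hd (show d⁻¹ * c ∈ θ.ker by
      rw [MonoidHom.mem_ker, map_mul, map_inv, e, inv_mul_cancel]))
    simpa using this
  have hcen : Subgroup.center C = θ.ker := by
    refine le_antisymm (fun c hc' => ?_) hc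
    have : θ c ∈ Subgroup.center P := Subgroup.mem_center_iff.2 fun p => by
      obtain ⟨d, rfl⟩ := hs p
      rw [← map_mul, ← map_mul, Subgroup.mem_center_iff.1 hc' d]
    rwa [center_simple hP, Subgroup.mem_bot] at this
  let e : C ⧸ Subgroup.center C ≃* P :=
    (QuotientGroup.quotientMulEquivOfEq hcen).trans (QuotientGroup.quotientKerEquivOfSurjective θ hs)
  haveI := e.toEquiv.nontrivial
  exact ⟨⟨⟨hperf⟩, IsSimpleGroup.isSimpleGroup_of_surjective e.symm.toMonoidHom e.symm.surjective⟩,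
    hcen, ⟨e⟩⟩

variable {G : Type u} [Group G] [Finite G] {z : G} {Q : Subgroup (Subgroup.centralizer ({z} : Set G))}
  [Q.Normal]

/-- The statement for a generator acting as the scalar. -/
theorem quasisimple_of_gen (hF : IsOfLargeFischerTypeAt z Q) (D : Model z Q)
    {x : Subgroup.centralizer ({z} : Set G)} (hx3 : x ^ 3 = 1) (hxR : ∀ v, D.ρ x v = wW v)
    {P : Type v} [Group P] [IsSimpleGroup P] (hP : commutator P = ⊤) (π : D.M →* P)
    (hπ : Function.Surjective π) (hker : ∀ m : D.M, D.ρ m.1 = 1 ∨ D.ρ m.1 = D.ρ x → π m = 1)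
    (hscal : ∀ m : D.M, π m = 1 → ∃ i : ℕ, D.ρ m.1 = D.ρ (x ^ i)) :
    Cfsg.IsQuasisimple ↥(Subgroup.centralizer ({x} : Set (Subgroup.centralizer ({z} : Set G)))) ∧
    IsCyclic ↥(Subgroup.center ↥(Subgroup.centralizer ({x} : Set (Subgroup.centralizer ({z} : Set G))))) ∧
    Nat.card ↥(Subgroup.center ↥(Subgroup.centralizer ({x} : Set (Subgroup.centralizer ({z} : Set G))))) = 6 ∧
    Nonempty (↥(Subgroup.centralizer ({x} : Set (Subgroup.centralizer ({z} : Set G)))) ⧸
      Subgroup.center ↥(Subgroup.centralizer ({x} : Set (Subgroup.centralizer ({z} : Set G)))) ≃* P) := by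
  classical
  set Cx := Subgroup.centralizer ({x} : Set (Subgroup.centralizer ({z} : Set G))) with hCx
  have hxz : (x : G) * z = z * x := Subgroup.mem_centralizer_singleton_iff.1 x.2
  have hx3' : (x : G) ^ 3 = 1 := congrArg Subtype.val hx3
  have hxR' : ∀ v, R D (x : G) v = wW v := fun v => by rw [R_coe]; exact hxR v
  obtain ⟨a, g, C⟩ := exists_cfg hF D hxz hx3' hxR'
  have hmemC : ∀ c : (Subgroup.centralizer ({z} : Set G)), c ∈ Cx ↔ c * x = x * c := fun c => Subgroup.mem_centralizer_singleton_iff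
  -- the centraliser lies in M
  have hCM : Cx ≤ D.M := by
    intro c hc
    by_contra hn
    refine not_linear_and_anti (g := D.ρ c) (fun v => ?_) (anti hF D c hn) (D.ρ c).surjective
    rw [← hxR v, ← Equiv.Perm.mul_apply, ← map_mul, (hmemC c).1 hc, map_mul, Equiv.Perm.mul_apply, hxR]
  -- lifts
  have hlift : ∀ m ∈ D.M, ∃ c ∈ Cx, D.ρ c = D.ρ m := by
    intro m hm
    obtain ⟨c, ⟨c', -, rfl⟩, hcx, hR⟩ := C.exists_cent (k := (m : G)) ⟨m, hm, rfl⟩
    refine ⟨c', (hmemC c').2 (Subtype.ext hcx), ?_⟩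
    rw [← R_coe D c', ← R_coe D m]
    exact hR
  have hcentQ : ∀ c ∈ Cx, D.ρ c = 1 → c = 1 ∨ c = zc z := by
    intro c hc h
    have hq : (c : G) ∈ up Q := mem_up.2 (by rw [← D.ker, MonoidHom.mem_ker]; exact h)
    rcases C.cent_up hq (congrArg Subtype.val ((hmemC c).1 hc)) with e | e
    · exact Or.inl (Subtype.ext e)
    · exact Or.inr (Subtype.ext e)
  let θ : Cx →* P := π.comp (Subgroup.inclusion hCM)
  have hθ : Function.Surjective θ := by
    intro p
    obtain ⟨m, rfl⟩ := hπ p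
    obtain ⟨c, hc, e⟩ := hlift m.1 m.2
    refine ⟨⟨c, hc⟩, ?_⟩
    have h1 : π (m⁻¹ * Subgroup.inclusion hCM ⟨c, hc⟩) = 1 := hker _ (Or.inl (by
      show D.ρ ((m : (Subgroup.centralizer ({z} : Set G)))⁻¹ * c) = 1
      rw [map_mul, map_inv, e, inv_mul_cancel]))
    rw [map_mul, map_inv, inv_mul_eq_one] at h1
    exact h1.symm
  have hzC : zc z ∈ Cx := (hmemC _).2 (zc_comm x).symm
  have hxC : x ∈ Cx := (hmemC _).2 rfl
  let xC : Cx := ⟨x, hxC⟩
  let zC : Cx := ⟨zc z, hzC⟩
  have hkerx : ∀ c : Cx, c ∈ θ.ker → ∃ i : ℕ, c = xC ^ i ∨ c = xC ^ i * zC := by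
    intro c hc
    obtain ⟨i, hi⟩ := hscal _ (MonoidHom.mem_ker.1 hc)
    have hi' : D.ρ c.1 = D.ρ (x ^ i) := hi
    refine ⟨i, ?_⟩
    rcases hcentQ ((x ^ i)⁻¹ * c.1) (mul_mem (inv_mem (pow_mem hxC i)) c.2)
      (by rw [map_mul, map_inv, hi', inv_mul_cancel]) with e | e
    · left
      refine Subtype.ext ?_
      rw [inv_mul_eq_one] at e
      exact e.symm
    · right
      refine Subtype.ext ?_
      rw [inv_mul_eq_iff_eq_mul] at e
      exact e
  have hzx_ker : zC ∈ θ.ker ∧ xC ∈ θ.ker := by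
    exact ⟨MonoidHom.mem_ker.2 (hker _ (Or.inl (D.rho_Q D.zc_mem))),
      MonoidHom.mem_ker.2 (hker _ (Or.inr rfl))⟩
  have hxcen : xC ∈ Subgroup.center Cx :=
    Subgroup.mem_center_iff.2 fun c => Subtype.ext ((hmemC c.1).1 c.2)
  have hzcen : zC ∈ Subgroup.center Cx :=
    Subgroup.mem_center_iff.2 fun c => Subtype.ext (zc_comm c.1)
  have hc : θ.ker ≤ Subgroup.center Cx := by
    intro c hc
    obtain ⟨i, rfl | rfl⟩ := hkerx c hc
    · exact pow_mem hxcen i
    · exact mul_mem (pow_mem hxcen i) hzcen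
  let ι : Cx →* G := (Subgroup.centralizer ({z} : Set G)).subtype.comp Cx.subtype
  have hιinj : Function.Injective ι := (Subgroup.centralizer ({z} : Set G)).subtype_injective.comp Cx.subtype_injective
  have hzD : zC ∈ commutator Cx := by
    have hz := C.z_mem_commutator hF
    have hmap : Cx.map (Subgroup.centralizer ({z} : Set G)).subtype = centX z (x : G) := by
      ext k
      rw [mem_centX]
      constructor
      · rintro ⟨c, hc', rfl⟩
        exact ⟨Subgroup.mem_centralizer_singleton_iff.1 c.2, congrArg Subtype.val ((hmemC c).1 hc')⟩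
      · rintro ⟨h1, h2⟩
        exact ⟨H82.Fi24Cent.hc k h1, (hmemC _).2 (Subtype.ext h2), rfl⟩
    have hr : ι.range = centX z (x : G) := by
      rw [MonoidHom.range_comp, Subgroup.range_subtype, hmap]
    have : z ∈ (commutator Cx).map ι := by
      rw [map_commutator_eq, hr]
      exact hz
    obtain ⟨d, hd, e⟩ := this
    rwa [show d = zC from hιinj e] at hd
  have hxD : xC ∈ commutator Cx := by
    have hcom : ∀ l, ∃ c : Cx, D.ρ c.1 = pr l := by
      intro l
      obtain ⟨m, hm, e⟩ := D.exists_rho (pr_mem l)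
      obtain ⟨c, hc', e'⟩ := hlift m hm
      exact ⟨⟨c, hc'⟩, e'.trans e⟩
    obtain ⟨cA, eA⟩ := hcom [4, 2, 2]
    obtain ⟨cB, eB⟩ := hcom [5, 2, 9]
    obtain ⟨cC, eC⟩ := hcom [9, 5, 2]
    obtain ⟨cD, eD⟩ := hcom [5, 1, 6]
    set e : Cx := cA * cB * cA⁻¹ * cB⁻¹ * (cC * cD * cC⁻¹ * cD⁻¹) with he
    have heD : e ∈ commutator Cx := by
      refine mul_mem ?_ ?_ <;> rw [← commutatorElement_def, _root_.commutator_def] <;>
        exact Subgroup.commutator_mem_commutator (Subgroup.mem_top _) (Subgroup.mem_top _)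
    have hρe : D.ρ e.1 = D.ρ x := by
      refine Equiv.ext fun v => ?_
      rw [hxR, ← omega_commutator v]
      simp only [he, Subgroup.coe_mul, Subgroup.coe_inv, map_mul, map_inv, eA, eB, eC, eD, comA, comB,
        comC, comD]
    rcases hcentQ (e.1⁻¹ * x) (mul_mem (inv_mem e.2) hxC)
      (by rw [map_mul, map_inv, hρe, inv_mul_cancel]) with h | h
    · rw [inv_mul_eq_one] at h
      rwa [show xC = e from Subtype.ext h.symm]
    · rw [inv_mul_eq_iff_eq_mul] at h
      rw [show xC = e * zC from Subtype.ext h]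
      exact mul_mem heD hzD
  have hd : θ.ker ≤ commutator Cx := by
    intro c hc'
    obtain ⟨i, rfl | rfl⟩ := hkerx c hc'
    · exact pow_mem hxD i
    · exact mul_mem (pow_mem hxD i) hzD
  obtain ⟨hQS, hcen, hiso⟩ := quasi_of hP θ hθ hc hd
  -- the centre
  have hz2 : orderOf z = 2 := hF.1.1
  have ho2 : orderOf zC = 2 := by rw [← orderOf_injective ι hιinj zC]; exact hz2
  have ho3 : orderOf xC = 3 := by
    haveI := Fact.mk Nat.prime_three
    refine orderOf_eq_prime (Subtype.ext hx3) fun h => ?_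
    have h' : D.ρ x = 1 := by rw [show x = 1 from congrArg Subtype.val h, map_one]
    have h2 := hxR v3
    rw [h', Equiv.Perm.one_apply] at h2
    exact v3_facts.2.2.2.2.1 h2.symm
  have hcomm : Commute xC zC := Subgroup.mem_center_iff.1 hzcen xC
  have ho6 : orderOf (xC * zC) = 6 := by
    rw [hcomm.orderOf_mul_eq_mul_orderOf_of_coprime (by rw [ho2, ho3]; decide), ho2, ho3]
  have hgen : Subgroup.center Cx = Subgroup.zpowers (xC * zC) := by
    refine le_antisymm (fun c hc' => ?_) ((Subgroup.zpowers_le).2 (mul_mem hxcen hzcen))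
    rw [hcen] at hc'
    have hx4 : (xC * zC) ^ 4 = xC := by
      rw [hcomm.mul_pow, show zC ^ 4 = 1 from orderOf_dvd_iff_pow_eq_one.1 (by rw [ho2]; norm_num),
        mul_one, show 4 = 3 + 1 by norm_num, pow_succ, ← ho3, pow_orderOf_eq_one, one_mul]
    have hz3 : (xC * zC) ^ 3 = zC := by
      rw [hcomm.mul_pow, ← ho3, pow_orderOf_eq_one, one_mul, ho3, show 3 = 2 + 1 by norm_num,
        pow_succ, ← ho2, pow_orderOf_eq_one, one_mul]
    have hxm : xC ∈ Subgroup.zpowers (xC * zC) := by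
      have h := pow_mem (Subgroup.mem_zpowers (xC * zC)) 4
      rwa [hx4] at h
    have hzm : zC ∈ Subgroup.zpowers (xC * zC) := by
      have h := pow_mem (Subgroup.mem_zpowers (xC * zC)) 3
      rwa [hz3] at h
    obtain ⟨i, rfl | rfl⟩ := hkerx c hc'
    · exact pow_mem hxm i
    · exact mul_mem (pow_mem hxm i) hzm
  refine ⟨hQS, ?_, ?_, hiso⟩
  · rw [hgen]; infer_instance
  · rw [hgen, Nat.card_zpowers, ho6]

/-- The centraliser of the normal subgroup of order three. -/
theorem quasisimple_centralizer (hF : IsOfLargeFischerTypeAt z Q)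
    (X : Subgroup (Subgroup.centralizer ({z} : Set G))) (hX : Nat.card X = 3) (hXQ : (X ⊔ Q).Normal) :
    Cfsg.IsQuasisimple ↥(Subgroup.centralizer (X : Set (Subgroup.centralizer ({z} : Set G)))) ∧
    IsCyclic ↥(Subgroup.center ↥(Subgroup.centralizer (X : Set (Subgroup.centralizer ({z} : Set G))))) ∧
    Nat.card ↥(Subgroup.center ↥(Subgroup.centralizer (X : Set (Subgroup.centralizer ({z} : Set G))))) = 6 ∧
    ∃ (K : Type) (_ : Field K) (_ : Fintype K), Fintype.card K = 9 ∧
      Nonempty (↥(Subgroup.centralizer (X : Set (Subgroup.centralizer ({z} : Set G)))) ⧸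
        Subgroup.center ↥(Subgroup.centralizer (X : Set (Subgroup.centralizer ({z} : Set G)))) ≃*
          PSU 4 K 3) := by
  classical
  obtain ⟨D⟩ := nonempty_model hF
  obtain ⟨⟨-, -, -, hcardQ, -⟩, N, M', hNn, hMn, hQN, hNM, hcardN, ⟨K, _, _, hK, ⟨ψ⟩⟩, hMi⟩ := id hF
  haveI := hNn
  haveI := hMn
  have hK3 : Fintype.card K = 3 ^ 2 := by rw [hK]; norm_num
  haveI hS : IsSimpleGroup (PSU 4 K 3) :=
    H50.PSU_isSimple hK3 (by norm_num) (by norm_num)
  have hP : commutator (PSU 4 K 3) = ⊤ := H81.U43.perfect_psu43 hK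
  haveI hMn2 : D.M.Normal := Subgroup.normal_of_index_eq_two D.index_M
  have hpar : ∀ n : (Subgroup.centralizer ({z} : Set G)), n * n * n ∈ D.M → n ∈ D.M := by
    intro n h
    by_contra hn
    have h2 : n * n ∈ D.M := (Subgroup.mul_mem_iff_of_index_two D.index_M).2 Iff.rfl
    exact hn (((Subgroup.mul_mem_iff_of_index_two D.index_M).1 h).1 h2)
  -- N inside M
  have hQidx : (Q.subgroupOf N).index = 3 := by
    have h := (Q.subgroupOf N).card_mul_index
    rw [Nat.card_congr (Subgroup.subgroupOfEquivOfLe hQN).toEquiv, hcardN, mul_comm 3] at h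
    exact Nat.eq_of_mul_eq_mul_left Nat.card_pos h
  have hcube : ∀ n ∈ N, n ^ 3 ∈ Q := by
    intro n hn
    have := Subgroup.pow_index_mem (Q.subgroupOf N) ⟨n, hn⟩
    rw [hQidx] at this
    exact this
  have hND : N ≤ D.M := fun n hn => hpar n (D.Q_le (by
    have := hcube n hn
    rwa [pow_succ, pow_two] at this))
  -- the two subgroups of index two agree
  let π0 : M' →* PSU 4 K 3 := ψ.toMonoidHom.comp (QuotientGroup.mk' (N.subgroupOf M'))
  have hπ0 : Function.Surjective π0 := ψ.surjective.comp (QuotientGroup.mk'_surjective _)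
  have hπ0ker : ∀ m : M', π0 m = 1 ↔ (m : (Subgroup.centralizer ({z} : Set G))) ∈ N := fun m => by
    show ψ (QuotientGroup.mk m) = 1 ↔ _
    rw [ψ.map_eq_one_iff, QuotientGroup.eq_one_iff]
    rfl
  have hM : M' = D.M := by
    have hle : M' ≤ D.M := by
      have hn : ((D.M.subgroupOf M').map π0).Normal :=
        (inferInstance : (D.M.subgroupOf M').Normal).map π0 hπ0
      rcases hn.eq_bot_or_eq_top with h | h
      · exfalso
        have hsq : ∀ p : PSU 4 K 3, p * p = 1 := by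
          intro p
          obtain ⟨m, rfl⟩ := hπ0 p
          rw [← map_mul]
          have hm : (m * m : M') ∈ D.M.subgroupOf M' := by
            rw [Subgroup.mem_subgroupOf, Subgroup.coe_mul]
            exact (Subgroup.mul_mem_iff_of_index_two D.index_M).2 Iff.rfl
          have : π0 (m * m) ∈ (D.M.subgroupOf M').map π0 := ⟨_, hm, rfl⟩
          rwa [h, Subgroup.mem_bot] at this
        have hab : commutator (PSU 4 K 3) = ⊥ := by
          rw [_root_.commutator_def, Subgroup.commutator_eq_bot_iff_le_centralizer]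
          intro p _
          rw [Subgroup.mem_centralizer_iff]
          intro q _
          have hinv : ∀ r : PSU 4 K 3, r⁻¹ = r := fun r => inv_eq_of_mul_eq_one_right (hsq r)
          calc q * p = (q * p)⁻¹ := (hinv _).symm
            _ = p * q := by rw [mul_inv_rev, hinv, hinv]
        exact bot_ne_top (hab.symm.trans hP)
      · intro m hm
        obtain ⟨d, hd, e⟩ := (h.ge (Subgroup.mem_top (π0 ⟨m, hm⟩)))
        have hk := (hπ0ker (d⁻¹ * ⟨m, hm⟩)).1 (by rw [map_mul, map_inv, e, inv_mul_cancel])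
        have := mul_mem (Subgroup.mem_subgroupOf.1 hd) (hND hk)
        simpa using this
    refine Subgroup.eq_of_le_of_card_ge hle ?_
    have h1 := M'.card_mul_index
    have h2 := D.M.card_mul_index
    rw [hMi] at h1
    rw [D.index_M] at h2
    omega
  subst hM
  -- the image of N
  obtain ⟨ω0, hω0, hω0e⟩ := D.omega
  have hω0v : ∀ v, D.ρ ω0 v = wW v := fun v => congrFun hω0e v
  have hω0N : ω0 ∈ N := by
    have hc : π0 ⟨ω0, hω0⟩ ∈ Subgroup.center (PSU 4 K 3) := by
      rw [Subgroup.mem_center_iff]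
      intro p
      obtain ⟨m, rfl⟩ := hπ0 p
      rw [← map_mul, ← map_mul, ← inv_mul_eq_one, ← map_inv, ← map_mul, hπ0ker]
      refine hQN (D.ker.le (MonoidHom.mem_ker.2 ?_))
      have hm := (isUni_K0 (D.rho_mem m.1 m.2)).wcomm
      have e : D.ρ (ω0 * m.1) = D.ρ (m.1 * ω0) := Equiv.ext fun w => by
        rw [map_mul, map_mul, Equiv.Perm.mul_apply, Equiv.Perm.mul_apply, hω0v, hω0v, hm]
      show D.ρ ((m.1 * ω0)⁻¹ * (ω0 * m.1)) = 1
      rw [map_mul, map_inv, e, inv_mul_cancel]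
    rw [center_simple hP, Subgroup.mem_bot, hπ0ker] at hc
    exact hc
  haveI := Fact.mk Nat.prime_three
  have himg : ∀ n ∈ N, ∃ i : ℕ, D.ρ n = D.ρ ω0 ^ i := by
    intro n hn
    let φ : N →* Equiv.Perm W := D.ρ.comp N.subtype
    have hk : φ.ker = Q.subgroupOf N := by
      ext t
      rw [Subgroup.mem_subgroupOf, ← D.ker, MonoidHom.mem_ker, MonoidHom.mem_ker]
      rfl
    have hcard : Nat.card φ.range = 3 := by rw [← Subgroup.index_ker, hk, hQidx]
    have hne : (⟨D.ρ ω0, ⟨⟨ω0, hω0N⟩, rfl⟩⟩ : φ.range) ≠ 1 := by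
      intro h
      have h' : D.ρ ω0 = 1 := congrArg Subtype.val h
      have h2 := hω0v v3
      rw [h', Equiv.Perm.one_apply] at h2
      exact v3_facts.2.2.2.2.1 h2.symm
    have hm : (⟨D.ρ n, ⟨⟨n, hn⟩, rfl⟩⟩ : φ.range) ∈ Submonoid.powers
        (⟨D.ρ ω0, ⟨⟨ω0, hω0N⟩, rfl⟩⟩ : φ.range) := mem_powers_of_prime_card hcard hne
    obtain ⟨i, hi⟩ := hm
    exact ⟨i, (congrArg Subtype.val hi).symm⟩
  -- the generator
  obtain ⟨⟨x0, hx0⟩, hgen⟩ := (isCyclic_of_prime_card (α := X) (p := 3) hX).exists_generator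
  have hXz : X = Subgroup.zpowers x0 := by
    refine le_antisymm (fun t ht => ?_) (Subgroup.zpowers_le.2 hx0)
    obtain ⟨i, hi⟩ := hgen ⟨t, ht⟩
    exact ⟨i, congrArg Subtype.val hi⟩
  have ho : orderOf x0 = 3 := by rw [← Nat.card_zpowers, ← hXz, hX]
  have hx03 : x0 ^ 3 = 1 := by rw [← ho, pow_orderOf_eq_one]
  have hx0M : x0 ∈ D.M := hpar x0 (by rw [← pow_two, ← pow_succ, hx03]; exact one_mem _)
  have hx0Q : x0 ∉ Q := by
    intro h
    have h2 : x0 ^ Nat.card Q = 1 := congrArg Subtype.val (pow_card_eq_one' (x := (⟨x0, h⟩ : Q)))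
    have h3 := orderOf_dvd_of_pow_eq_one h2
    rw [ho, hcardQ] at h3
    norm_num at h3
  have hXM : X ⊔ Q ≤ D.M := sup_le (hXz ▸ Subgroup.zpowers_le.2 hx0M) D.Q_le
  have hx0N : x0 ∈ N := by
    haveI := hXQ
    have hn : (((X ⊔ Q).subgroupOf D.M).map π0).Normal :=
      (inferInstance : ((X ⊔ Q).subgroupOf D.M).Normal).map π0 hπ0
    rcases hn.eq_bot_or_eq_top with h | h
    · have : π0 ⟨x0, hx0M⟩ ∈ ((X ⊔ Q).subgroupOf D.M).map π0 :=
        ⟨_, Subgroup.mem_subgroupOf.2 (Subgroup.mem_sup_left hx0), rfl⟩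
      rw [h, Subgroup.mem_bot, hπ0ker] at this
      exact this
    · exfalso
      have hall : ∀ p, ∃ i : ℤ, p = π0 ⟨x0, hx0M⟩ ^ i := by
        intro p
        obtain ⟨d, hd, rfl⟩ := h.ge (Subgroup.mem_top p)
        obtain ⟨t, ht, q, hq, e⟩ :=
          Subgroup.mem_sup_of_normal_right.1 (Subgroup.mem_subgroupOf.1 hd)
        rw [hXz, Subgroup.mem_zpowers_iff] at ht
        obtain ⟨i, rfl⟩ := ht
        refine ⟨i, ?_⟩
        rw [← map_zpow, ← inv_mul_eq_one, ← map_inv, ← map_mul, hπ0ker]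
        show d.1⁻¹ * x0 ^ i ∈ N
        rw [← e, mul_inv_rev, mul_assoc, inv_mul_cancel, mul_one]
        exact hQN (inv_mem hq)
      have hab : commutator (PSU 4 K 3) = ⊥ := by
        rw [_root_.commutator_def, Subgroup.commutator_eq_bot_iff_le_centralizer]
        intro p _
        rw [Subgroup.mem_centralizer_iff]
        intro q _
        obtain ⟨i, rfl⟩ := hall p
        obtain ⟨j, rfl⟩ := hall q
        rw [← zpow_add, ← zpow_add, add_comm]
      exact bot_ne_top (hab.symm.trans hP)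
  -- normalisation of the generator
  obtain ⟨x, hxX, hx3, hxR⟩ : ∃ x, X = Subgroup.zpowers x ∧ x ^ 3 = 1 ∧ ∀ v, D.ρ x v = wW v := by
    obtain ⟨i, hi⟩ := himg x0 hx0N
    have h3 : ∀ v, (D.ρ ω0 ^ 3) v = v := fun v => by
      simp only [pow_succ, pow_zero, one_mul, Equiv.Perm.mul_apply, hω0v, wW_cube]
    rw [pow_eq_pow_mod i (show D.ρ ω0 ^ 3 = 1 from Equiv.ext h3)] at hi
    rcases (show i % 3 = 0 ∨ i % 3 = 1 ∨ i % 3 = 2 by omega) with e | e | e <;> rw [e] at hi
    · exfalso
      exact hx0Q (by rw [← D.ker, MonoidHom.mem_ker, hi, pow_zero])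
    · exact ⟨x0, hXz, hx03, fun v => by rw [hi, pow_one, hω0v]⟩
    · refine ⟨x0 ^ 2, ?_, by rw [← pow_mul, show 2 * 3 = 3 * 2 by norm_num, pow_mul, hx03, one_pow],
        fun v => ?_⟩
      · rw [hXz]
        refine le_antisymm (Subgroup.zpowers_le.2 ?_)
          (Subgroup.zpowers_le.2 (pow_mem (Subgroup.mem_zpowers _) 2))
        have e2 : (x0 ^ 2) ^ 2 = x0 := by
          rw [← pow_mul, show 2 * 2 = 3 + 1 by norm_num, pow_succ, hx03, one_mul]
        have h := pow_mem (Subgroup.mem_zpowers (x0 ^ 2)) 2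
        rwa [e2] at h
      · rw [map_pow, hi]
        simp only [pow_succ, pow_zero, one_mul, Equiv.Perm.mul_apply, hω0v, wW_cube]
  have hwx : D.ρ x = D.ρ ω0 := Equiv.ext fun v => by rw [hxR, hω0v]
  have hXcent : Subgroup.centralizer (X : Set (Subgroup.centralizer ({z} : Set G))) = Subgroup.centralizer ({x} : Set (Subgroup.centralizer ({z} : Set G))) := by
    rw [hxX, Subgroup.zpowers_eq_closure, Subgroup.centralizer_closure]
  rw [hXcent]
  have hxN : x ∈ N := by
    have := (Subgroup.zpowers_le (H := N)).2 hx0N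
    exact this (hXz ▸ hxX ▸ Subgroup.mem_zpowers x)
  obtain ⟨h1, h2, h3, h4⟩ := quasisimple_of_gen hF D hx3 hxR hP π0 hπ0 (fun m hm => by
    rw [hπ0ker]
    rcases hm with e | e
    · exact hQN (D.ker.le (MonoidHom.mem_ker.2 e))
    · have hq : x⁻¹ * m.1 ∈ N :=
        hQN (D.ker.le (MonoidHom.mem_ker.2 (by rw [map_mul, map_inv, e, inv_mul_cancel])))
      have := mul_mem hxN hq
      rwa [mul_inv_cancel_left] at this) (fun m hm => by
    obtain ⟨i, hi⟩ := himg m.1 ((hπ0ker m).1 hm)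
    exact ⟨i, by rw [hi, map_pow, hwx]⟩)
  exact ⟨h1, h2, h3, K, _, _, hK, h4⟩

end H82.Fi24Cent
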