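import Cfsg.Agent.H82.Fi24Cent.Span

/-!
Consequences of the certificates about subspaces and maps.
-/

set_option autoImplicit false
set_option maxRecDepth 100000

namespace H82.Fi24Cent

open H16.Fi24

attribute [local irreducible] five stA stB stC stD

theorem two_w (u : W) : u + u = 0 := funext fun i => by
  have : ∀ a : F4, a + a = 0 := by decide
  exact this _

theorem add_eq_iff {x y c : W} : x + y = c ↔ x = c + y := by
  constructor
  · rintro rfl; rw [add_assoc, two_w, add_zero]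
  · rintro rfl; rw [add_assoc, two_w, add_zero]

theorem wW_add (u v : W) : wW (u + v) = wW u + wW v := funext fun _ => mu_add _ _ _

theorem wW_cube (u : W) : wW (wW (wW u)) = u := funext fun i => by
  have : ∀ a : F4, mu (0, 1) (mu (0, 1) (mu (0, 1) a)) = a := by decide
  exact this _

theorem wW_sum (u : W) : wW (wW u) = wW u + u := funext fun i => by
  have : ∀ a : F4, mu (0, 1) (mu (0, 1) a) = mu (0, 1) a + a := by decide
  exact this _

theorem wW_zero : wW 0 = 0 := funext fun _ => mu_zero _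

theorem wW_inj {u v : W} (h : wW u = wW v) : u = v := by rw [← wW_cube u, ← wW_cube v, h]

theorem qf_wW (u : W) : qf (wW u) = qf u := (isUni_mono 1 fun _ => (1 : ZMod 3)).q u

theorem Bf_wW (u v : W) : Bf (wW u) (wW v) = Bf u v :=
  (isUni_mono 1 fun _ => (1 : ZMod 3)).Bf_eq u v

theorem Bf_symm (u v : W) : Bf u v = Bf v u := by
  rw [Bf, Bf, add_comm u v, add_assoc, add_comm (qf u), ← add_assoc]

theorem Bf_add (x u v : W) : Bf x (u + v) = Bf x u + Bf x v := by
  have key : ∀ a b c : F4, (nz (a + (b + c)) : ZMod 2) + nz a + nz (b + c) =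
      ((nz (a + b) : ZMod 2) + nz a + nz b) + ((nz (a + c) : ZMod 2) + nz a + nz c) := by
    decide +kernel
  rw [Bf_sum, Bf_sum, Bf_sum, ← Finset.sum_add_distrib]
  exact Finset.sum_congr rfl fun i _ => key _ _ _

theorem Bf_wW_self (u : W) (h : qf u = 0) : Bf u (wW u) = 0 := by
  rw [Bf, show u + wW u = wW (wW u) by rw [wW_sum, add_comm], qf_wW, qf_wW, h, add_zero, add_zero]

theorem inL_add {u v : W} (hu : inL u) (hv : inL v) : inL (u + v) := by
  obtain ⟨a, rfl⟩ := inL_cases hu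
  obtain ⟨b, rfl⟩ := inL_cases hv
  rw [show sm a v3 + sm b v3 = sm (a + b) v3 from funext fun i => by
    show mu a (v3 i) + mu b (v3 i) = mu (a + b) (v3 i)
    rw [mu_comm a, mu_comm b, mu_comm (a + b), mu_add]]
  exact sm_v3_cases _

theorem perph_add {u v : W} (hu : perph u) (hv : perph v) : perph (u + v) :=
  ⟨by rw [Bf_add, hu.1, hv.1, add_zero], by rw [wW_add, Bf_add, hu.2, hv.2, add_zero]⟩

theorem perph_wW {u : W} (hu : perph u) : perph (wW u) :=
  ⟨hu.2, by rw [wW_sum, Bf_add, hu.2, hu.1, add_zero]⟩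

theorem inL_perph {u : W} (h : inL u) : perph u := by
  obtain ⟨a, rfl⟩ := inL_cases h
  revert a; decide +kernel

theorem perph_K0stab {g : Equiv.Perm W} (hg : g ∈ K0stab v3) {u : W} (hu : perph u) : perph (g u) := by
  obtain ⟨hg, hv⟩ := mem_K0stab.1 hg
  have hU := isUni_K0 hg
  refine ⟨?_, ?_⟩
  · rw [← hv, hU.Bf_eq, hu.1]
  · rw [← hv, ← hU.wcomm, hU.Bf_eq, hu.2]

theorem inL_fix {g : Equiv.Perm W} (hg : g ∈ K0stab v3) {u : W} (hu : inL u) : g u = u := by
  obtain ⟨hg, hv⟩ := mem_K0stab.1 hg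
  obtain ⟨a, rfl⟩ := inL_cases hu
  rw [(isUni_K0 hg).sm_comm, hv]

theorem can_eq_zero {u : W} (h : can u = 0) : inL u := by
  rw [can, add_eq_iff, zero_add] at h
  rw [h]
  exact sm_v3_cases _

/-- An invariant subgroup through the base line and another perpendicular vector contains a multiple
of the second base vector. -/
theorem descend (S : AddSubgroup W) (hA : ∀ u ∈ S, stA u ∈ S) (hB : ∀ u ∈ S, stB u ∈ S)
    (hC : ∀ u ∈ S, stC u ∈ S) (hL : ∀ u, inL u → u ∈ S) {u : W} (hu : u ∈ S) (hp : perph u)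
    (hn : ¬ inL u) : w2 ∈ S ∨ wW w2 ∈ S ∨ wW (wW w2) ∈ S := by
  have hcan : ∀ u ∈ S, can u ∈ S := fun u hu => add_mem hu (hL _ (sm_v3_cases _))
  have hcp : ∀ u, perph u → perph (can u) := fun u hu => perph_add hu (inL_perph (sm_v3_cases _))
  induction hd : rk (code (can u)) using Nat.strong_induction_on generalizing u with
  | _ n ih =>
    have hne : can u ≠ 0 := fun h => hn (can_eq_zero h)
    have hs := can_perph hp
    have h1 := rank_ok (u 0 + u 3) (u 1 + u 3) (u 4) (u 5) (hs ▸ hne)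
    rw [← hs] at h1
    have hcode : ∀ x y : W, code x = code y → x = y := by
      have hd : ∀ v : W, (fun i : Fin 6 => ((((code v / 4 ^ i.val) % 2 : ℕ) : ZMod 2),
          (((code v / (2 * 4 ^ i.val)) % 2 : ℕ) : ZMod 2))) = v := forall_W (by decide +kernel)
      intro x y e
      rw [← hd x, ← hd y, e]
    have step : ∀ (g : Equiv.Perm W) (M : Fin 6 → W), (∀ x, g x = mat M x) → (∀ x ∈ S, g x ∈ S) →
        g ∈ K0stab v3 → stepOK M (can u) = true → w2 ∈ S ∨ wW w2 ∈ S ∨ wW (wW w2) ∈ S := by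
      intro g M he hg hgs h
      simp only [stepOK, Bool.and_eq_true, decide_eq_true_eq] at h
      have hw : mat M (can u) + can u ∈ S := add_mem (he (can u) ▸ hg _ (hcan u hu)) (hcan u hu)
      have hwp : perph (mat M (can u) + can u) :=
        perph_add (he (can u) ▸ perph_K0stab hgs (hcp u hp)) (hcp u hp)
      have hz : can (mat M (can u) + can u) ≠ 0 := fun h0 => h.2 (by rw [h0]; rfl)
      refine ih _ (hd ▸ h.1) hw hwp (fun h0 => hz ?_) rfl
      obtain ⟨a, e⟩ := inL_cases h0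
      rw [e]
      clear e
      revert a; decide +kernel
    simp only [rankStep, Bool.or_eq_true, List.contains_iff_mem, List.mem_cons,
      List.not_mem_nil, or_false] at h1
    rcases h1 with (((h | h | h) | h) | h) | h
    · exact Or.inl (hcode _ _ h ▸ hcan u hu)
    · exact Or.inr (Or.inl (hcode _ _ h ▸ hcan u hu))
    · exact Or.inr (Or.inr (hcode _ _ h ▸ hcan u hu))
    · exact step stA stAM stA_eq hA stA_mem h
    · exact step stB stBM stB_eq hB stB_mem h
    · exact step stC stCM stC_eq hC stC_mem h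

/-- Vectors fixed by the element of order five. -/
theorem inL_of_five {u : W} (hp : perph u) (h : five u = u) : inL u := by
  refine can_eq_zero ?_
  have e : mat fiveM (can u) = can u := by
    have hU : IsUni ⇑five := isUni_K0 (mem_K0stab.1 five_mem).1
    rw [← five_eq, can, hU.add]
    rw [h, inL_fix five_mem (sm_v3_cases _)]
  rw [can_perph hp] at e ⊢
  exact five_fixed _ _ _ _ e

/-- Images of the basis under powers of the element of order five. -/
def fiveOrb : Fin 6 → W × W × W × W := fun j => match j.val with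
    | 0 => (![(0, 0), (1, 0), (0, 1), (0, 1), (0, 1), (0, 1)], ![(1, 1), (0, 1), (0, 0), (0, 0), (0, 0), (1, 1)], ![(0, 1), (0, 0), (1, 1), (0, 0), (0, 0), (0, 1)], ![(0, 0), (1, 1), (1, 0), (1, 1), (1, 1), (1, 1)])
    | 1 => (![(0, 1), (1, 1), (1, 0), (1, 0), (1, 0), (0, 0)], ![(0, 0), (0, 0), (1, 1), (0, 1), (0, 1), (0, 0)], ![(1, 1), (0, 0), (0, 1), (0, 0), (0, 0), (0, 1)], ![(1, 0), (0, 1), (0, 0), (0, 1), (0, 1), (0, 1)])
    | 2 => (![(1, 0), (0, 0), (1, 1), (1, 1), (1, 1), (1, 1)], ![(0, 1), (1, 1), (0, 0), (0, 0), (0, 0), (1, 1)], ![(0, 0), (0, 1), (0, 0), (1, 1), (1, 1), (0, 0)], ![(1, 1), (1, 0), (0, 1), (1, 0), (1, 0), (0, 0)])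
    | 3 => (![(0, 1), (1, 1), (1, 0), (1, 0), (0, 0), (1, 0)], ![(0, 0), (0, 0), (0, 1), (1, 1), (0, 1), (0, 0)], ![(0, 0), (1, 1), (0, 0), (0, 1), (1, 1), (0, 0)], ![(1, 1), (1, 0), (0, 1), (1, 0), (0, 0), (1, 0)])
    | 4 => (![(0, 1), (1, 1), (1, 0), (0, 0), (1, 0), (1, 0)], ![(0, 0), (0, 0), (0, 1), (0, 1), (1, 1), (0, 0)], ![(0, 0), (1, 1), (0, 0), (1, 1), (0, 1), (0, 0)], ![(1, 1), (1, 0), (0, 1), (0, 0), (1, 0), (1, 0)])
    | _ => (![(0, 1), (1, 1), (0, 0), (1, 0), (1, 0), (1, 0)], ![(1, 1), (1, 1), (0, 0), (0, 0), (0, 0), (0, 1)], ![(0, 1), (0, 0), (0, 1), (0, 0), (0, 0), (1, 1)], ![(1, 1), (0, 0), (0, 1), (1, 0), (1, 0), (1, 0)])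

theorem fiveOrb_ok : ∀ j : Fin 6, mat fiveM (bv j) = (fiveOrb j).1 ∧
    mat fiveM (fiveOrb j).1 = (fiveOrb j).2.1 ∧ mat fiveM (fiveOrb j).2.1 = (fiveOrb j).2.2.1 ∧
    mat fiveM (fiveOrb j).2.2.1 = (fiveOrb j).2.2.2 ∧ mat fiveM (fiveOrb j).2.2.2 = bv j := by
  decide +kernel

theorem pow_five_eq_one {g : Equiv.Perm W} {M : Fin 6 → W} (hg : g ∈ K0) (he : ∀ u, g u = mat M u)
    (o : Fin 6 → W × W × W × W)
    (ho : ∀ j : Fin 6, mat M (bv j) = (o j).1 ∧ mat M (o j).1 = (o j).2.1 ∧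
      mat M (o j).2.1 = (o j).2.2.1 ∧ mat M (o j).2.2.1 = (o j).2.2.2 ∧
      mat M (o j).2.2.2 = bv j) : g ^ 5 = 1 := by
  have hU : IsUni ⇑(g ^ 5) := isUni_K0 (Subgroup.pow_mem _ hg 5)
  have hI : IsUni (fun x : W => x) := ⟨fun _ _ => rfl, fun _ => rfl, fun _ => rfl⟩
  refine Equiv.ext fun u => congrFun (hU.ext_basis hI fun j => ?_) u
  obtain ⟨e1, e2, e3, e4, e5⟩ := ho j
  simp only [pow_succ, pow_zero, one_mul, Equiv.Perm.mul_apply, he]
  rw [e1, e2, e3, e4, e5]

theorem five_pow : five ^ 5 = 1 ∧ five ≠ 1 := by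
  refine ⟨pow_five_eq_one (mem_K0stab.1 five_mem).1 five_eq fiveOrb fiveOrb_ok, fun h => ?_⟩
  have h2 : mat fiveM w2 = five w2 := (five_eq w2).symm
  have hne : mat fiveM w2 ≠ w2 := by decide +kernel
  exact hne (h2.trans ((DFunLike.congr_fun h w2).trans (Equiv.Perm.one_apply w2)))

/-- A linear map moving the orthogonal space into the base line is trivial. -/
theorem eq_id_of_linear {g : W → W} (hadd : ∀ u v, g (u + v) = g u + g v)
    (hw : ∀ v, g (wW v) = wW (g v)) (hlab : ∀ v, lab (g v) = lab v)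
    (h : ∀ u, Bf v3 u = 0 → g u + u = 0 ∨ g u + u = v3) : ∀ u, g u = u := by
  have hp : ∀ u, perph u → g u = u := by
    intro u hu
    rcases h u hu.1 with e | e
    · rwa [add_eq_iff, zero_add] at e
    · exfalso
      have e' : g (wW u) + wW u = wW v3 := by rw [hw, ← wW_add, e]
      rcases h _ hu.2 with e2 | e2 <;> rw [e'] at e2 <;> revert e2 <;> decide +kernel
  have hT : g wT = wT := by
    rcases h _ wT_ok.1 with e | e
    · rwa [add_eq_iff, zero_add] at e
    · rw [add_eq_iff] at e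
      have := hlab wT
      rw [e, add_comm] at this
      exact absurd this wT_ok.2
  have hT1 : g (wW wT) = wW wT := by rw [hw, hT]
  have hT2 : g (wW (wW wT)) = wW (wW wT) := by rw [hw, hT1]
  intro u
  have key : ∀ c, g c = c → perph (u + c) → g u = u := fun c hc hu => by
    have := hp _ hu
    rwa [hadd, hc, add_left_inj] at this
  rcases wT_span u with h' | h' | h' | h'
  · exact hp u h'
  · exact key _ hT h'
  · exact key _ hT1 h'
  · exact key _ hT2 h'

/-- No semilinear map moves the orthogonal space into the base line. -/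
theorem false_of_anti {g : W → W} (hw : ∀ v, g (wW v) = wW (wW (g v)))
    (h : ∀ u, Bf v3 u = 0 → g u + u = 0 ∨ g u + u = v3) : False := by
  obtain ⟨hu, hab⟩ := anti_witness
  have h1 := h _ hu.1
  have h2 := h _ hu.2
  refine hab (g (wW w2) + wW w2) (g w2 + w2) h2 h1 ?_
  rw [show w2 + (g w2 + w2) = g w2 by rw [add_comm (g w2), ← add_assoc, two_w, zero_add],
    show wW w2 + (g (wW w2) + wW w2) = g (wW w2) by
      rw [add_comm (g (wW w2)), ← add_assoc, two_w, zero_add], hw]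

end H82.Fi24Cent
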