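import Cfsg.Agent.H82.Fi24Cent.Cert

/-!
The perpendicular space is spanned by the base vector and four images of the second base vector.
-/

set_option autoImplicit false
set_option maxRecDepth 100000

namespace H82.Fi24Cent

open H16.Fi24

/-- An image of the second base vector. -/
def w2c : W := ![(0, 1), (0, 1), (1, 1), (1, 1), (1, 1), (0, 1)]

theorem w2c_ok : mat stBM w2a = w2c := by decide +kernel

/-- A coordinate functional. -/
def co (c u : W) : F4 := mu (c 0) (u 0) + mu (c 1) (u 1) + mu (c 2) (u 2) + mu (c 3) (u 3) +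
  mu (c 4) (u 4) + mu (c 5) (u 5)

/-- The projection on the span. -/
def proj5 (u : W) : W :=
  sm (co ![(0, 0), (0, 0), (0, 1), (1, 1), (1, 1), (1, 1)] u) v3 +
      sm (co ![(1, 0), (0, 0), (0, 0), (1, 0), (1, 0), (1, 0)] u) w2 +
      sm (co ![(0, 0), (0, 0), (1, 0), (1, 0), (0, 1), (1, 1)] u) w2a +
      sm (co ![(0, 0), (0, 0), (1, 0), (1, 0), (0, 0), (0, 0)] u) w2b +
      sm (co ![(0, 0), (0, 0), (1, 0), (1, 0), (1, 1), (0, 1)] u) w2c

theorem proj5_add (u v : W) : proj5 (u + v) = proj5 u + proj5 v := by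
  have hs : ∀ (a b : F4) (x : W), sm (a + b) x = sm a x + sm b x := fun a b x => funext fun i => by
    show mu (a + b) (x i) = mu a (x i) + mu b (x i)
    rw [mu_comm, mu_add, mu_comm (x i), mu_comm (x i)]
  have hc : ∀ c, co c (u + v) = co c u + co c v := fun c => by
    simp only [co, Pi.add_apply, mu_add]; abel
  simp only [proj5, hc, hs]; abel

theorem proj5_sm (a : F4) (u : W) : proj5 (sm a u) = sm a (proj5 u) := by
  have hc : ∀ c, co c (sm a u) = mu a (co c u) := fun c => by
    have e : ∀ x y z : F4, mu x (mu y z) = mu y (mu x z) := by decide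
    simp only [co, sm, e _ a, mu_add]
  have hd : ∀ (x y : W), sm a (x + y) = sm a x + sm a y := fun x y => funext fun i => mu_add _ _ _
  simp only [proj5, hc, hd, sm_sm]

theorem perph_span : ∀ u : W, perph u → proj5 u = u := by
  intro u hu
  have hb : ∀ b ∈ [![(1, 0), 0, 0, (1, 0), 0, 0], ![0, (1, 0), 0, (1, 0), 0, 0],
      ![0, 0, (1, 0), (1, 0), 0, 0], ![0, 0, 0, 0, (1, 0), 0], (![0, 0, 0, 0, 0, (1, 0)] : W)],
      proj5 b = b := by decide +kernel
  have h1 : ∀ a : F4, mu a (1, 0) = a := fun a => by rw [mu_comm, mu_one]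
  have e : u = sm (u 0) ![(1, 0), 0, 0, (1, 0), 0, 0] + sm (u 1) ![0, (1, 0), 0, (1, 0), 0, 0] +
      sm (u 2) ![0, 0, (1, 0), (1, 0), 0, 0] + sm (u 4) ![0, 0, 0, 0, (1, 0), 0] +
      sm (u 5) ![0, 0, 0, 0, 0, (1, 0)] := by
    funext i
    fin_cases i <;> simp [sm, mu_zero, h1, (perph_iff u).1 hu]
  conv_lhs => rw [e]
  simp only [proj5_add, proj5_sm]
  rw [hb _ (by simp), hb _ (by simp), hb _ (by simp), hb _ (by simp), hb _ (by simp)]
  exact e.symm

end H82.Fi24Cent
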