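import Cfsg.Agent.H82.Fi24Cent.Inter

/-!
The involution `z` is a product of commutators inside the centraliser of the element of order three.
-/

set_option autoImplicit false

namespace H82.Fi24Cent

open H16.Fi24 Cfsg

attribute [local irreducible] five stA stB stC stD K0stab

universe u

variable {G : Type u} [Group G] {z : G} {Q : Subgroup (Subgroup.centralizer ({z} : Set G))}
  [Q.Normal]

theorem not_linear_and_anti {g : W → W} (h1 : ∀ v, g (wW v) = wW (g v))
    (h2 : ∀ v, g (wW v) = wW (wW (g v))) (hs : Function.Surjective g) : False := by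
  obtain ⟨v, hv⟩ := hs v3
  have h := (h1 v).symm.trans (h2 v)
  rw [hv] at h
  exact absurd h (by decide +kernel)

/-- The centraliser of `x` in the centraliser of `z`. -/
abbrev centX (z x : G) : Subgroup G :=
  Subgroup.centralizer ({z} : Set G) ⊓ Subgroup.centralizer ({x} : Set G)

omit [Q.Normal] in
theorem mem_centX {x k : G} : k ∈ centX z x ↔ k * z = z * k ∧ k * x = x * k := by
  simp only [Subgroup.mem_inf, Subgroup.mem_centralizer_singleton_iff]

theorem card_K0stab_v3 (D : Model z Q) : Nat.card (K0stab v3) = 5760 := by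
  rw [card_K0stab D.card_K0 v3 (by rw [v3_facts.1]; norm_num), v3_facts.1]
  norm_num

/-- An element of order five fixing the base vector fixes only the base line on the orthogonal space. -/
theorem inL_of_order_five (D : Model z Q) {σ : Equiv.Perm W} (hσ : σ ∈ K0stab v3) (h5 : σ ^ 5 = 1)
    (hne : σ ≠ 1) {u : W} (hu : perph u) (hfix : σ u = u) : inL u := by
  classical
  have := Fact.mk (by norm_num : Nat.Prime 5)
  let Γ := K0stab v3
  let s : Γ := ⟨σ, hσ⟩
  let f : Γ := ⟨five, five_mem⟩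
  have hs : orderOf s = 5 := orderOf_eq_prime (Subtype.ext h5) (fun e => hne (congrArg Subtype.val e))
  have hf : orderOf f = 5 :=
    orderOf_eq_prime (Subtype.ext five_pow.1) (fun e => five_pow.2 (congrArg Subtype.val e))
  have hcard : ∀ t : Γ, orderOf t = 5 →
      Nat.card (Subgroup.zpowers t) = 5 ^ (Nat.card Γ).factorization 5 := by
    intro t ht
    rw [Nat.card_zpowers, ht, card_K0stab_v3 D,
      show (5760 : ℕ).factorization 5 = 1 from by
        rw [show (5760 : ℕ) = 5 ^ 1 * 1152 by norm_num,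
          Nat.factorization_mul (by norm_num) (by norm_num), Finsupp.add_apply,
          Nat.factorization_pow, Finsupp.smul_apply, Nat.Prime.factorization_self (by norm_num),
          Nat.factorization_eq_zero_of_not_dvd (by norm_num)]
        rfl, pow_one]
  let S1 := Sylow.ofCard (Subgroup.zpowers s) (hcard s hs)
  let S2 := Sylow.ofCard (Subgroup.zpowers f) (hcard f hf)
  obtain ⟨k, hk⟩ := MulAction.exists_smul_eq Γ S2 S1
  have hmem : k * f * k⁻¹ ∈ Subgroup.zpowers s := by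
    have h := congrArg (fun P : Sylow 5 Γ => (P : Subgroup Γ)) hk
    simp only [Sylow.smul_def, Sylow.pointwise_smul_def] at h
    rw [show ((S1 : Sylow 5 Γ) : Subgroup Γ) = Subgroup.zpowers s from rfl] at h
    rw [← h]
    exact Subgroup.mem_map.2 ⟨f, Subgroup.mem_zpowers f, rfl⟩
  obtain ⟨n, hn⟩ := Subgroup.mem_zpowers_iff.1 hmem
  have hsu : ((s ^ n : Γ) : Equiv.Perm W) u = u := by
    have hst : σ ∈ MulAction.stabilizer (Equiv.Perm W) u := hfix
    exact MulAction.mem_stabilizer_iff.1 (Subgroup.zpow_mem _ hst n)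
  rw [hn] at hsu
  have hk2 : five ((k : Equiv.Perm W)⁻¹ u) = (k : Equiv.Perm W)⁻¹ u := by
    have h := congrArg (fun w => (k : Equiv.Perm W)⁻¹ w) hsu
    simpa [f] using h
  have hkm : (k : Equiv.Perm W)⁻¹ ∈ K0stab v3 := inv_mem k.2
  have hL := inL_of_five (perph_K0stab hkm hu) hk2
  have := inL_fix k.2 hL
  rw [← Equiv.Perm.mul_apply, mul_inv_cancel, Equiv.Perm.one_apply] at this
  rw [this]
  exact hL

namespace Cfg

variable {D : Model z Q} {x a g : G} (C : Cfg D x a g) [Finite G]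
  (hF : IsOfLargeFischerTypeAt z Q)
include C hF

theorem cent_le_upM {k : G} (hk : k * z = z * k) (hkv : R D k v3 = v3)
    (hkw : R D k (wW v3) = wW v3) : k ∈ upM D := by
  refine ⟨hc k hk, ?_, rfl⟩
  by_contra hn
  have h := anti hF D _ hn v3
  rw [← R_coe D (hc k hk)] at h
  rw [hkw, hkv] at h
  exact absurd h (by decide +kernel)

/-- An element of the centraliser of `z` mapping `a` to `z` and its image to `a`. -/
theorem exists_h : ∃ h, h * a * h⁻¹ = z ∧ h * (x * a * x⁻¹) * h⁻¹ = a ∧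
    (∀ p, p ∈ Qc Q g ↔ h * p * h⁻¹ ∈ up Q) ∧ (∀ p, p ∈ Qc Q (x * g) ↔ h * p * h⁻¹ ∈ Qc Q g) := by
  set y := x * a * x⁻¹ with hy
  have hm := mem_Qc.1 (C.y_Qa)
  rw [← hy] at hm
  have hne : g⁻¹ * y * g ≠ z := fun e => C.ne_four.2.2.1 (by
    rw [← hy, ← C.gz, ← e]; group)
  have hl := lab_conjugate hF D hm (C.y_conj.trans (isConj_iff.2 ⟨g⁻¹, by rw [hy]; group⟩)) hne
  have hla : lab (V D a) = 3 := by rw [C.aV]; exact v3_facts.1
  obtain ⟨k, hkz, hk⟩ := exists_conj_V D hm C.aup (by omega) (hla.trans hl.symm)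
  have hki : k⁻¹ * z = z * k⁻¹ := by
    calc k⁻¹ * z = k⁻¹ * (z * k) * k⁻¹ := by group
      _ = k⁻¹ * (k * z) * k⁻¹ := by rw [hkz]
      _ = z * k⁻¹ := by group
  refine ⟨k * g⁻¹, ?_, ?_, fun p => ?_, fun p => ?_⟩
  · rw [← C.gz, show k * g⁻¹ * (g * z * g⁻¹) * (k * g⁻¹)⁻¹ = k * z * k⁻¹ by group, hkz]; group
  · rw [show k * g⁻¹ * y * (k * g⁻¹)⁻¹ = k * (g⁻¹ * y * g) * k⁻¹ by group, hk]
  · rw [mem_Qc, show k * g⁻¹ * p * (k * g⁻¹)⁻¹ = k * (g⁻¹ * p * g) * k⁻¹ by group]
    refine ⟨up_conj hkz, fun h => ?_⟩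
    have h2 := up_conj hki h
    rwa [show k⁻¹ * (k * (g⁻¹ * p * g) * k⁻¹) * k⁻¹⁻¹ = g⁻¹ * p * g by group] at h2
  · have e : Qc Q (k * g⁻¹ * (x * g)) = Qc Q g := Qc_eq (by
      rw [C.gz, show k * g⁻¹ * (x * g) * z * (k * g⁻¹ * (x * g))⁻¹ =
        k * (g⁻¹ * (x * (g * z * g⁻¹) * x⁻¹) * g) * k⁻¹ by group, C.gz, ← hy, hk])
    rw [← e, mem_Qc, mem_Qc, show (k * g⁻¹ * (x * g))⁻¹ * (k * g⁻¹ * p * (k * g⁻¹)⁻¹) *
      (k * g⁻¹ * (x * g)) = (x * g)⁻¹ * p * (x * g) by group]

/-- The involution `z` is a product of commutators in the centraliser of `x`. -/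
theorem z_mem_commutator : z ∈ ⁅centX z x, centX z x⁆ := by
  classical
  obtain ⟨h, hha, hhy, hP1, hP2⟩ := C.exists_h hF
  set y := x * a * x⁻¹ with hy
  set P : Subgroup G := Qc Q g ⊓ Qc Q (x * g) with hP
  have hxgz : x * g * z * (x * g)⁻¹ = y := by rw [hy, C.y_eq]
  have hPA : ∀ p, p ∈ P ↔ h * p * h⁻¹ ∈ Agrp Q g := fun p => and_congr (hP1 p) (hP2 p)
  have hcomm : ∀ p ∈ P, ∀ p' ∈ P, p * p' = p' * p := by
    intro p hp p' hp'
    have e := C.A_abelian hF ((hPA p).1 hp) ((hPA p').1 hp')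
    calc p * p' = h⁻¹ * (h * p * h⁻¹ * (h * p' * h⁻¹)) * h := by group
      _ = h⁻¹ * (h * p' * h⁻¹ * (h * p * h⁻¹)) * h := by rw [e]
      _ = p' * p := by group
  have hzP : z ∈ P := ⟨C.z_Qa, C.mem_Qy.2 (by
    rw [show x⁻¹ * z * x = z by rw [C.x_inv_z]; group]; exact C.z_Qa)⟩
  have haP : a ∈ P := (hPA a).2 (by rw [hha]; exact C.A_z)
  have hyP : y ∈ P := (hPA y).2 (by rw [hhy]; exact C.A_a)
  have hw_of : ∀ p, p = 1 ∨ p = a ∨ p = y ∨ p = a * y → p ∈ P := by
    rintro p (h0 | h0 | h0 | h0) <;> obtain rfl := h0.symm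
    exacts [one_mem _, haP, hyP, mul_mem haP hyP]
  have pz : ∀ p ∈ P, p * z = z * p := fun p hp => hcomm p hp z hzP
  have pa : ∀ p ∈ P, p * a = a * p := fun p hp => hcomm p hp a haP
  have py : ∀ p ∈ P, p * y = y * p := fun p hp => hcomm p hp y hyP
  -- the centraliser of the line
  have hKM : ∀ k, k * z = z * k → k * a = a * k → k * y = y * k → k ∈ upM D := fun k hkz hka hky =>
    C.cent_le_upM hF hkz (by rw [← C.aV, ← V_conj D hkz C.aup, conj_eq_comm hka])
      (by rw [← C.y_V, ← hy, ← V_conj D hkz C.y_up, ← hy, conj_eq_comm hky])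
  -- the image of z
  set z' := h * z * h⁻¹ with hz'
  have hz'A : z' ∈ Agrp Q g := (hPA z).1 hzP
  have hz'L : inL (V D z') := by
    obtain ⟨c, hc, hcx, hca, hcy, hR⟩ := C.exists_lift five_mem
    have hcz := upM_comm_z D hc
    have hc5up : c ^ 5 ∈ up Q := by
      refine mem_up_of_R D (upM_comm_z D (pow_mem hc 5)) ?_
      have e : ∀ n : ℕ, R D (c ^ n) = five ^ n := by
        intro n
        induction n with
        | zero => rw [pow_zero, pow_zero, R_one]
        | succ n ih => rw [pow_succ, R_mul D (upM_comm_z D (pow_mem hc n)) hcz, ih, hR, pow_succ]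
      rw [e, five_pow.1]
    have hc30 : (c ^ 6) ^ 5 = 1 := by
      rw [← pow_mul, show 6 * 5 = 5 * 6 by norm_num, pow_mul]
      rcases C.cent_up hc5up ((show Commute c x from hcx).pow_left 5) with e | e <;> rw [e]
      · exact one_pow 6
      · rw [show (6 : ℕ) = 2 + 2 + 2 from rfl, pow_add, pow_add, pow_two, z_mul_z D, one_mul, one_mul]
    set d := c ^ 6 with hd
    have hdz : d * z = z * d := (show Commute c z from hcz).pow_left 6
    have hda : d * a = a * d := (show Commute c a from hca).pow_left 6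
    have hdy : d * y = y * d := (show Commute c y from hcy).pow_left 6
    set e := h * d * h⁻¹ with he
    have hconj : ∀ s t : G, d * s = s * d → h * s * h⁻¹ = t → e * t = t * e := by
      intro s t hs hst
      rw [← hst, he]
      calc h * d * h⁻¹ * (h * s * h⁻¹) = h * (d * s) * h⁻¹ := by group
        _ = h * (s * d) * h⁻¹ := by rw [hs]
        _ = h * s * h⁻¹ * (h * d * h⁻¹) := by group
    have hez := hconj a z hda hha
    have hea := hconj y a hdy hhy
    have hez' := hconj z z' hdz rfl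
    have he5 : e ^ 5 = 1 := by rw [he, conj_pow, hc30]; group
    have heM : e ∈ upM D := upM_of_odd D hez (n := 5) (by norm_num) he5
    have hes : R D e ∈ K0stab v3 := mem_K0stab.2 ⟨R_upM D heM, by
      rw [← C.aV, ← V_conj D hez C.aup, conj_eq_comm hea]⟩
    have hR5 : R D e ^ 5 = 1 := by
      have e' : ∀ n : ℕ, R D (e ^ n) = R D e ^ n := by
        intro n
        induction n with
        | zero => rw [pow_zero, pow_zero, R_one]
        | succ n ih => rw [pow_succ, R_mul D (upM_comm_z D (pow_mem heM n)) hez, ih, pow_succ]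
      rw [← e', he5, R_one]
    have hne : R D e ≠ 1 := by
      intro h1
      have heu := mem_up_of_R D hez h1
      obtain ⟨⟨-, -, -, hcard, -⟩, -⟩ := hF
      have hcu : Nat.card (up Q) = 2 ^ 13 := by
        rw [Subgroup.card_map_of_injective (Subgroup.subtype_injective _), hcard]
      have h2 : e ^ (2 ^ 13) = 1 := by
        rw [← hcu]
        exact congrArg Subtype.val (pow_card_eq_one' (x := (⟨e, heu⟩ : up Q)))
      have h3 : orderOf e ∣ Nat.gcd 5 (2 ^ 13) :=
        Nat.dvd_gcd (orderOf_dvd_of_pow_eq_one he5) (orderOf_dvd_of_pow_eq_one h2)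
      rw [show Nat.gcd 5 (2 ^ 13) = 1 by norm_num, Nat.dvd_one, orderOf_eq_one_iff] at h3
      rw [he, conj_eq_one_iff] at h3
      have hcc : c ^ 6 = 1 := h3
      have hR6 : five ^ 6 = 1 := by
        have e' : ∀ n : ℕ, R D (c ^ n) = five ^ n := by
          intro n
          induction n with
          | zero => rw [pow_zero, pow_zero, R_one]
          | succ n ih => rw [pow_succ, R_mul D (upM_comm_z D (pow_mem hc n)) hcz, ih, hR, pow_succ]
        rw [← e', hcc, R_one]
      rw [pow_succ, five_pow.1, one_mul] at hR6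
      exact five_pow.2 hR6
    refine inL_of_order_five D hes hR5 hne (C.U_perph hF ⟨z', hz'A, rfl⟩) ?_
    rw [← V_conj D hez hz'A.1, conj_eq_comm hez']
  -- z' lies in the coset of y
  have hz'y : ∃ e, (e = 1 ∨ e = z ∨ e = a ∨ e = a * z) ∧ z' = y * e := by
    have hinj : ∀ p, h * z * h⁻¹ = h * p * h⁻¹ → z = p := fun p e =>
      mul_left_cancel (mul_right_cancel e)
    obtain ⟨f, hf, hzf⟩ := C.F_cases hz'A.1 hz'L
    rw [← hy] at hf
    rcases hf with h0 | h0 | h0 | h0 <;> obtain rfl := h0.symm <;> rcases hzf with e | e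
    · refine absurd (conj_eq_one_iff.1 e) ?_
      exact fun hz1 => C.a_ne (by rw [← C.gz, hz1]; group)
    · rw [one_mul] at e
      exact absurd (hinj a (e.trans hha.symm)) C.a_ne.symm
    · exact absurd (hinj y (e.trans hhy.symm)) (fun e' => C.ne_four.2.1 e'.symm)
    · have e2 : z = y * a := hinj (y * a) (e.trans (by
        rw [show h * (y * a) * h⁻¹ = h * y * h⁻¹ * (h * a * h⁻¹) by group, hhy, hha]))
      refine absurd ?_ C.ne_four.2.2.2
      rw [← hy, C.a_comm_z, e2, mul_assoc, C.a_sq, mul_one]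
    · exact ⟨1, Or.inl rfl, by rw [mul_one]; exact e⟩
    · exact ⟨z, Or.inr (Or.inl rfl), e⟩
    · exact ⟨a, Or.inr (Or.inr (Or.inl rfl)), by rw [← pa y hyP] at e; exact e⟩
    · refine ⟨a * z, Or.inr (Or.inr (Or.inr rfl)), ?_⟩
      rw [← pa y hyP] at e
      rw [← mul_assoc]
      exact e
  obtain ⟨e0, he0, hz'e⟩ := hz'y
  -- transported commutators
  set Γ' := Subgroup.closure ({d | ∃ k p, k * z = z * k ∧ k * a = a * k ∧ k * y = y * k ∧ p ∈ P ∧
    d = k * p * k⁻¹ * p⁻¹} ∪ {a, y}) with hΓ'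
  have he0P : h⁻¹ * e0 * h ∈ Γ' ∧ h⁻¹ * e0 * h ∈ P ∧
      (∀ k, k * a = a * k → k * y = y * k → k * (h⁻¹ * e0 * h) = h⁻¹ * e0 * h * k) := by
    have hia : h⁻¹ * z * h = a := by rw [← hha]; group
    have hiy : h⁻¹ * a * h = y := by rw [← hhy]; group
    have hmem : ∀ t, t = 1 ∨ t = a ∨ t = y ∨ t = y * a → t ∈ Γ' ∧ t ∈ P ∧
        (∀ k, k * a = a * k → k * y = y * k → k * t = t * k) := by
      rintro t (h0 | h0 | h0 | h0) <;> obtain rfl := h0.symm
      · exact ⟨one_mem _, one_mem _, fun k _ _ => by rw [mul_one, one_mul]⟩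
      · exact ⟨Subgroup.subset_closure (Or.inr (by simp)), haP, fun k h1 _ => h1⟩
      · exact ⟨Subgroup.subset_closure (Or.inr (by simp)), hyP, fun k _ h2 => h2⟩
      · exact ⟨mul_mem (Subgroup.subset_closure (Or.inr (by simp)))
          (Subgroup.subset_closure (Or.inr (by simp))), mul_mem hyP haP,
          fun k h1 h2 => ((show Commute k y from h2).mul_right (show Commute k a from h1))⟩
    rcases he0 with h0 | h0 | h0 | h0 <;> obtain rfl := h0.symm
    · exact hmem _ (Or.inl (by group))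
    · exact hmem _ (Or.inr (Or.inl hia))
    · exact hmem _ (Or.inr (Or.inr (Or.inl hiy)))
    · exact hmem _ (Or.inr (Or.inr (Or.inr (by
        rw [show h⁻¹ * (a * z) * h = h⁻¹ * a * h * (h⁻¹ * z * h) by group, hia, hiy]))))
  have hyh : h⁻¹ * y * h = z * (h⁻¹ * e0 * h)⁻¹ := by
    have : y = h * z * h⁻¹ * e0⁻¹ := by rw [← hz', hz'e]; group
    rw [this]; group
  have hzΓ : z ∈ Γ' := by
    have key : ∀ d ∈ gam Q x a g, h⁻¹ * d * h ∈ Γ' := by
      intro d hd
      have : gam Q x a g ≤ Γ'.comap (MulAut.conj h⁻¹).toMonoidHom := by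
        rw [gam, Subgroup.closure_le]
        rintro d (⟨k, p, hkz, hka, hky, hp, rfl⟩ | hd)
        · show h⁻¹ * (k * p * k⁻¹ * p⁻¹) * h⁻¹⁻¹ ∈ Γ'
          set k' := h⁻¹ * k * h with hk'
          have hk'comm : ∀ s t : G, k * t = t * k → h * s * h⁻¹ = t → k' * s = s * k' := by
            intro s t hs hst
            have e : s = h⁻¹ * t * h := by rw [← hst]; group
            rw [e, hk']
            calc h⁻¹ * k * h * (h⁻¹ * t * h) = h⁻¹ * (k * t) * h := by group
              _ = h⁻¹ * (t * k) * h := by rw [hs]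
              _ = h⁻¹ * t * h * (h⁻¹ * k * h) := by group
          have h1 := hk'comm a z hkz hha
          have h2 := hk'comm y a hka hhy
          have h3 := hk'comm (h⁻¹ * y * h) y hky (by group)
          have h4 : k' * z = z * k' := by
            have e : z = h⁻¹ * y * h * (h⁻¹ * e0 * h) := by rw [hyh]; group
            rw [e]
            exact (show Commute k' (h⁻¹ * y * h) from h3).mul_right (he0P.2.2 k' h1 h2)
          refine Subgroup.subset_closure (Or.inl ⟨k', h⁻¹ * p * h, h4, h1, h2, (hPA _).2 ?_, ?_⟩)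
          · rw [show h * (h⁻¹ * p * h) * h⁻¹ = p by group]; exact hp
          · rw [hk']; group
        · show h⁻¹ * d * h⁻¹⁻¹ ∈ Γ'
          rw [inv_inv]
          rcases hd with h0 | h0 <;> obtain rfl := h0.symm
          · rw [show h⁻¹ * z * h = a by rw [← hha]; group]
            exact Subgroup.subset_closure (Or.inr (by simp))
          · rw [show h⁻¹ * a * h = y by rw [← hhy]; group]
            exact Subgroup.subset_closure (Or.inr (by simp))
      have h2 := this hd
      rw [Subgroup.mem_comap] at h2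
      simpa using h2
    have h2 := key y (C.y_mem_gam hF)
    rw [hyh] at h2
    have h3 := mul_mem h2 he0P.1
    rwa [inv_mul_cancel_right] at h3
  -- the product decomposition
  set L := ⁅centX z x, centX z x⁆ with hL
  have hfour : ∀ p ∈ P, p ∈ up Q → ∃ f, (f = 1 ∨ f = a ∨ f = y ∨ f = a * y) ∧ (p = f ∨ p = f * z) := by
    intro p hp hpu
    refine C.F_cases hpu (C.inL_of_both hF ⟨p, ⟨hpu, hp.1⟩, rfl⟩ ?_)
    have hpx := C.mem_Qy.1 hp.2
    have hu' : x⁻¹ * p * x ∈ up Q := by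
      have := up_conj C.x_inv_z hpu
      rwa [inv_inv] at this
    refine ⟨_, ⟨hu', hpx⟩, ?_⟩
    have e := V_conj D C.xz hu'
    rw [show x * (x⁻¹ * p * x) * x⁻¹ = p by group, C.xR] at e
    rw [e, wW_cube]
  have hxF : ∀ f, f = 1 ∨ f = a ∨ f = y ∨ f = a * y →
      (x * f * x⁻¹ = 1 ∨ x * f * x⁻¹ = a ∨ x * f * x⁻¹ = y ∨ x * f * x⁻¹ = a * y) := by
    rintro f (h0 | h0 | h0 | h0) <;> obtain rfl := h0.symm
    · exact Or.inl (by group)
    · exact Or.inr (Or.inr (Or.inl rfl))
    · exact Or.inr (Or.inr (Or.inr C.w_eq))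
    · exact Or.inr (Or.inl C.x_w)
  have ha2 := C.a_sq
  have hy2 : y * y = 1 := C.y_sq
  have hxP : ∀ p ∈ P, x * p * x⁻¹ ∈ P := by
    obtain ⟨q, hq, hqe⟩ := exists_mover D C.aup (by rw [C.aV]; exact v3_facts.2.2.1)
    have hqz := up_comm_z hq
    have hPle : P ≤ P.map (MulAut.conj x).toMonoidHom := by
      intro p hp
      rw [Subgroup.mem_map_equiv, MulAut.conj_symm_apply]
      refine ⟨C.mem_Qy.1 hp.2, ?_⟩
      have hA := (hPA p).1 hp
      have hA2 : h * p * h⁻¹ ∈ Qc Q (q * g) := by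
        rw [mem_Qc, show (q * g)⁻¹ * (h * p * h⁻¹) * (q * g) = g⁻¹ * (q⁻¹ * (h * p * h⁻¹) * q) * g by
          group, ← mem_Qc]
        have hqi := inv_mem hq
        rcases up_comm_cases D hA.1 hq with e | e
        · rw [show q⁻¹ * (h * p * h⁻¹) * q = h * p * h⁻¹ by rw [mul_assoc, e]; group]
          exact hA.2
        · rw [show q⁻¹ * (h * p * h⁻¹) * q = h * p * h⁻¹ * z by rw [mul_assoc, e]; group]
          exact mul_mem hA.2 C.z_Qa
      have e : Qc Q (h⁻¹ * (q * g)) = Qc Q (x * (x * g)) := Qc_eq (by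
        rw [show h⁻¹ * (q * g) * z * (h⁻¹ * (q * g))⁻¹ = h⁻¹ * (q * (g * z * g⁻¹) * q⁻¹) * h by group,
          C.gz, hqe, show x * (x * g) * z * (x * (x * g))⁻¹ = x * (x * (g * z * g⁻¹) * x⁻¹) * x⁻¹ by group,
          C.gz, C.w_eq, ← hy, pa y hyP |>.symm]
        calc h⁻¹ * (a * z) * h = h⁻¹ * (h * y * h⁻¹ * (h * a * h⁻¹)) * h := by rw [hhy, hha]
          _ = y * a := by group)
      have h5 : p ∈ Qc Q (x * (x * g)) := by
        rw [← e, mem_Qc, show (h⁻¹ * (q * g))⁻¹ * p * (h⁻¹ * (q * g)) =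
          (q * g)⁻¹ * (h * p * h⁻¹) * (q * g) by group, ← mem_Qc]
        exact hA2
      show x⁻¹ * p * x ∈ Qc Q (x * g)
      rw [mem_Qc] at h5 ⊢
      rwa [show (x * g)⁻¹ * (x⁻¹ * p * x) * (x * g) = (x * (x * g))⁻¹ * p * (x * (x * g)) by group]
    have heq : P = P.map (MulAut.conj x).toMonoidHom :=
      Subgroup.eq_of_le_of_card_ge hPle
        (Subgroup.card_map_of_injective (MulAut.conj x).injective).le
    intro p hp
    rw [heq]
    exact ⟨p, hp, rfl⟩
  have hsplit : ∀ p ∈ P, ∃ f, (f = 1 ∨ f = a ∨ f = y ∨ f = a * y) ∧ x * (f⁻¹ * p) = f⁻¹ * p * x := by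
    intro p hp
    set d := x * p * x⁻¹ * p⁻¹ with hd
    have hpM := hKM p (pz p hp) (pa p hp) (py p hp)
    have hxp := hxP p hp
    have hdu : d ∈ up Q := by
      refine mem_up_of_R D (pz d (mul_mem hxp (inv_mem hp))) ?_
      have hpi := upM_comm_z D (inv_mem hpM)
      have hxi := C.x_inv_z
      refine Equiv.ext fun v => ?_
      rw [hd, R_mul D (pz _ hxp) hpi, R_mul D (by
        calc x * p * z = x * (p * z) := by group
          _ = x * z * p := by rw [pz p hp]; group
          _ = z * (x * p) := by rw [C.xz]; group) hxi, R_mul D C.xz (pz p hp),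
        R_inv D C.xz, R_inv D (pz p hp), Equiv.Perm.mul_apply, Equiv.Perm.mul_apply,
        Equiv.Perm.mul_apply, Equiv.Perm.one_apply]
      have hU := isUni_K0 (R_upM D hpM)
      obtain ⟨v, rfl⟩ := (R D p).surjective v
      rw [Equiv.Perm.inv_def (R D p), Equiv.symm_apply_apply]
      obtain ⟨v, rfl⟩ := (R D x).surjective v
      rw [Equiv.Perm.inv_def (R D x), Equiv.symm_apply_apply, C.xR, C.xR, hU.wcomm]
    obtain ⟨f0, hf0, hdf⟩ := hfour d (mul_mem hxp (inv_mem hp)) hdu
    have hd_eq : d = f0 := by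
      rcases hdf with e | e
      · exact e
      · exfalso
        have hf1 := hxF f0 hf0
        have tele : x * (x * d * x⁻¹) * x⁻¹ * (x * d * x⁻¹) * d = 1 := by
          rw [show x * (x * d * x⁻¹) * x⁻¹ * (x * d * x⁻¹) * d =
            x * (x * (x * p * x⁻¹) * x⁻¹) * x⁻¹ * p⁻¹ by rw [hd]; group, C.x_cube, mul_inv_cancel]
        have hxz1 : x * z * x⁻¹ = z := conj_eq_comm C.xz
        have c1 := pz (x * f0 * x⁻¹) (hw_of _ hf1)
        have c2 := pz f0 (hw_of _ hf0)
        rw [e, show x * (f0 * z) * x⁻¹ = x * f0 * x⁻¹ * (x * z * x⁻¹) by group, hxz1,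
          show x * (x * f0 * x⁻¹ * z) * x⁻¹ = x * (x * f0 * x⁻¹) * x⁻¹ * (x * z * x⁻¹) by group, hxz1]
          at tele
        have horb : x * (x * f0 * x⁻¹) * x⁻¹ * (x * f0 * x⁻¹) * f0 = 1 := by
          have hxy : x * y * x⁻¹ = a * y := C.w_eq
          have hxw : x * (a * y) * x⁻¹ = a := C.x_w
          have hxa : x * a * x⁻¹ = y := rfl
          have c := pa y hyP
          rcases hf0 with h0 | h0 | h0 | h0 <;> rw [h0]
          · group
          · rw [hxa, hxy, mul_assoc a y y, hy2, mul_one, ha2]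
          · rw [hxy, hxw, ← mul_assoc a a y, ha2, one_mul, hy2]
          · rw [hxw, hxa, ← mul_assoc (y * a), mul_assoc y a a, ha2, mul_one, hy2]
        have : x * (x * f0 * x⁻¹) * x⁻¹ * (x * f0 * x⁻¹) * f0 * (z * z * z) = 1 := by
          rw [← tele]
          calc x * (x * f0 * x⁻¹) * x⁻¹ * (x * f0 * x⁻¹) * f0 * (z * z * z)
              = x * (x * f0 * x⁻¹) * x⁻¹ * ((x * f0 * x⁻¹) * (f0 * z) * z) * z := by group
            _ = x * (x * f0 * x⁻¹) * x⁻¹ * ((x * f0 * x⁻¹) * (z * f0) * z) * z := by rw [c2]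
            _ = x * (x * f0 * x⁻¹) * x⁻¹ * ((x * f0 * x⁻¹ * z) * f0) * (z * z) := by group
            _ = x * (x * f0 * x⁻¹) * x⁻¹ * ((z * (x * f0 * x⁻¹)) * f0) * (z * z) := by rw [c1]
            _ = x * (x * f0 * x⁻¹) * x⁻¹ * z * (x * f0 * x⁻¹) * (f0 * z) * z := by group
            _ = x * (x * f0 * x⁻¹) * x⁻¹ * z * (x * f0 * x⁻¹) * (z * f0) * z := by rw [c2]
            _ = x * (x * f0 * x⁻¹) * x⁻¹ * z * (x * f0 * x⁻¹ * z) * (f0 * z) := by group
        rw [horb, one_mul, z_mul_z D, one_mul] at this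
        exact C.a_ne (by rw [← C.gz, this]; group)
    have key : ∀ f, (f = 1 ∨ f = a ∨ f = y ∨ f = a * y) → x * f * x⁻¹ = f * f0 →
        x * (f⁻¹ * p) = f⁻¹ * p * x := by
      intro f hf e
      have hfP := hw_of f hf
      refine mul_inv_eq_iff_eq_mul.1 ?_
      rw [show x * (f⁻¹ * p) * x⁻¹ = (x * f * x⁻¹)⁻¹ * (x * p * x⁻¹) by group, e, ← hd_eq,
        show x * p * x⁻¹ = d * p by rw [hd]; group]
      have hcd := hcomm f⁻¹ (inv_mem hfP) d (mul_mem hxp (inv_mem hp))
      calc (f * d)⁻¹ * (d * p) = d⁻¹ * (f⁻¹ * d) * p := by group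
        _ = f⁻¹ * p := by rw [hcd]; group
    have hxy : x * y * x⁻¹ = a * y := C.w_eq
    have hxw : x * (a * y) * x⁻¹ = a := C.x_w
    rcases hf0 with h0 | h0 | h0 | h0 <;> obtain rfl := h0.symm
    · exact ⟨1, Or.inl rfl, key 1 (Or.inl rfl) (by group)⟩
    · refine ⟨y, Or.inr (Or.inr (Or.inl rfl)), key y (Or.inr (Or.inr (Or.inl rfl))) ?_⟩
      rw [hxy, pa y hyP]
    · refine ⟨a * y, Or.inr (Or.inr (Or.inr rfl)), key _ (Or.inr (Or.inr (Or.inr rfl))) ?_⟩
      rw [hxw, mul_assoc, hy2, mul_one]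
    · refine ⟨a, Or.inr (Or.inl rfl), key a (Or.inr (Or.inl rfl)) ?_⟩
      rw [← mul_assoc, ha2, one_mul]
  let N : Subgroup G :=
    { carrier := {p | ∃ l ∈ L, l ∈ P ∧ ∃ f, (f = 1 ∨ f = a ∨ f = y ∨ f = a * y) ∧ p = l * f}
      one_mem' := ⟨1, one_mem _, one_mem _, 1, Or.inl rfl, by rw [mul_one]⟩
      mul_mem' := by
        rintro p p' ⟨l, hl, hlP, f, hf, rfl⟩ ⟨l', hl', hlP', f', hf', rfl⟩
        refine ⟨l * l', mul_mem hl hl', mul_mem hlP hlP', f * f', ?_, ?_⟩
        · have c := pa y hyP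
          have ha' : ∀ t, a * (a * t) = t := fun t => by rw [← mul_assoc, ha2, one_mul]
          have hy' : ∀ t, y * (y * t) = t := fun t => by rw [← mul_assoc, hy2, one_mul]
          have c' : ∀ t, y * (a * t) = a * (y * t) := fun t => by rw [← mul_assoc, c, mul_assoc]
          rcases hf with rfl | rfl | rfl | rfl <;> rcases hf' with rfl | rfl | rfl | rfl <;>
            simp only [mul_assoc, one_mul, mul_one, ha2, hy2, ha', hy', c, c', true_or, or_true]
        · have e := hcomm f (hw_of f hf) l' hlP'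
          calc l * f * (l' * f') = l * (f * l') * f' := by group
            _ = l * (l' * f) * f' := by rw [e]
            _ = l * l' * (f * f') := by group
      inv_mem' := by
        rintro p ⟨l, hl, hlP, f, hf, rfl⟩
        refine ⟨l⁻¹, inv_mem hl, inv_mem hlP, f, hf, ?_⟩
        have hff : f⁻¹ = f := by
          rcases hf with h0 | h0 | h0 | h0 <;> obtain rfl := h0.symm
          · exact inv_one
          · exact C.a_inv
          · exact C.y_inv
          · rw [mul_inv_rev, C.y_inv, C.a_inv, pa y hyP]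
        rw [mul_inv_rev, hff]
        exact hcomm f (hw_of f hf) l⁻¹ (inv_mem hlP) }
  have hQstep : ∀ q ∈ up Q, q * a = a * q → q * y = y * q → ∀ p ∈ P,
      q * p * q⁻¹ * p⁻¹ ∈ N := by
    intro q hq hqa hqy p hp
    have hperp : perph (V D q) := by
      have h1 : Bf v3 (V D q) = 0 := by rw [← C.aV]; exact (V_comm D C.aup hq).1 hqa.symm
      have h2 : Bf (wW v3) (V D q) = 0 := by rw [← C.y_V, ← hy]; exact (V_comm D C.y_up hq).1 hqy.symm
      refine ⟨h1, ?_⟩
      rw [← Bf_wW v3, ← Bf_wW (wW v3), wW_cube, wW_sum, Bf_symm, Bf_add, Bf_symm, h2, Bf_symm, h1,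
        add_zero]
    obtain ⟨u1, ⟨q1, hq1, rfl⟩, u2, ⟨q2', hq2', rfl⟩, e⟩ := C.exists_decomp hF hperp
    set q2 := x * q2' * x⁻¹ with hq2
    have hq2u : q2 ∈ up Q := up_conj C.xz hq2'.1
    have hq2y : q2 ∈ Qc Q (x * g) := C.mem_Qy.2 (by
      rw [show x⁻¹ * q2 * x = q2' by rw [hq2]; group]; exact hq2'.2)
    obtain ⟨r1, hr1, hqr⟩ : ∃ r1 ∈ Agrp Q g, q = r1 * q2 := by
      have hV : V D q = V D (q1 * q2) := by
        rw [V_mul D hq1.1 hq2u, hq2, V_conj D C.xz hq2'.1, C.xR, e]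
      rcases V_cases D hq (mul_mem hq1.1 hq2u) hV with h' | h'
      · exact ⟨q1, hq1, h'⟩
      · refine ⟨q1 * z, mul_mem hq1 C.A_z, h'.trans ?_⟩
        rw [mul_assoc, up_comm_z hq2u, ← mul_assoc]
    have h2 : q2 * p * q2⁻¹ * p⁻¹ = 1 ∨ q2 * p * q2⁻¹ * p⁻¹ = y := by
      rcases Qc_comm_cases D hq2y hp.2 with h' | h'
      · exact Or.inl (by rw [h']; group)
      · rw [hxgz] at h'
        refine Or.inr ?_
        have hyq : y * q2⁻¹ = q2⁻¹ * y := by
          have h'' := Qc_comm hq2y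
          rw [hxgz] at h''
          exact ((show Commute q2 y from h'').inv_left.symm)
        calc q2 * p * q2⁻¹ * p⁻¹ = p * q2 * (y * q2⁻¹) * p⁻¹ := by rw [h']; group
          _ = p * y * p⁻¹ := by rw [hyq]; group
          _ = y := conj_eq_comm (py p hp)
    have h1 : r1 * p * r1⁻¹ * p⁻¹ = 1 ∨ r1 * p * r1⁻¹ * p⁻¹ = a := by
      rcases Qc_comm_cases D hr1.2 hp.1 with h' | h'
      · exact Or.inl (by rw [h']; group)
      · rw [C.gz] at h'
        refine Or.inr ?_
        have har : a * r1⁻¹ = r1⁻¹ * a := ((show Commute r1 a from C.comm_of_Qa hr1.2).inv_left.symm)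
        calc r1 * p * r1⁻¹ * p⁻¹ = p * r1 * (a * r1⁻¹) * p⁻¹ := by rw [h']; group
          _ = p * a * p⁻¹ := by rw [har]; group
          _ = a := conj_eq_comm (pa p hp)
    set e2 := q2 * p * q2⁻¹ * p⁻¹ with he2
    set e1 := r1 * p * r1⁻¹ * p⁻¹ with he1
    have he2r : r1 * e2 * r1⁻¹ = e2 := by
      rcases h2 with h' | h' <;> rw [h']
      · group
      · exact conj_eq_comm (C.A_abelian hF hr1 (C.A_y hF))
    have he2P : e2 * p = p * e2 := by
      rcases h2 with h' | h' <;> rw [h']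
      · group
      · exact (py p hp).symm
    have key : q * p * q⁻¹ * p⁻¹ = e2 * e1 := by
      rw [hqr, he1]
      calc r1 * q2 * p * (r1 * q2)⁻¹ * p⁻¹
          = r1 * e2 * r1⁻¹ * (r1 * p * r1⁻¹) * p⁻¹ := by rw [he2]; group
        _ = e2 * (r1 * p * r1⁻¹) * p⁻¹ := by rw [he2r]
        _ = e2 * (r1 * p * r1⁻¹ * p⁻¹) := by group
    rw [key]
    have hN : ∀ f, f = 1 ∨ f = a ∨ f = y ∨ f = a * y → f ∈ N := fun f hf =>
      ⟨1, one_mem _, one_mem _, f, hf, (one_mul f).symm⟩
    refine mul_mem (hN _ ?_) (hN _ ?_)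
    · exact h2.elim Or.inl (fun e => Or.inr (Or.inr (Or.inl e)))
    · exact h1.elim Or.inl (fun e => Or.inr (Or.inl e))
  have hΓN : Γ' ≤ N := by
    rw [hΓ', Subgroup.closure_le]
    rintro d (⟨k, p, hkz, hka, hky, hp, rfl⟩ | hd)
    · obtain ⟨c, hc, hcx, hR⟩ := C.exists_cent (hKM k hkz hka hky)
      have hcz := upM_comm_z D hc
      have hcv : R D c v3 = v3 := by rw [hR, ← C.aV, ← V_conj D hkz C.aup, conj_eq_comm hka]
      obtain ⟨hca, hcy⟩ := C.fix_a hcz hcx hcv
      have hci : c⁻¹ * z = z * c⁻¹ := upM_comm_z D (inv_mem hc)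
      set q := k * c⁻¹ with hq
      have hqu : q ∈ up Q := by
        refine mem_up_of_R D ?_ ?_
        · calc q * z = k * (c⁻¹ * z) := by rw [hq]; group
            _ = k * z * c⁻¹ := by rw [hci]; group
            _ = z * q := by rw [hkz, hq]; group
        · rw [hq, R_mul D hkz hci, R_inv D hcz, hR, mul_inv_cancel]
      have hqa : q * a = a * q := (show Commute k a from hka).mul_left
        (show Commute c a from hca).inv_left
      have hqy : q * y = y * q := (show Commute k y from hky).mul_left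
        (show Commute c y from hcy).inv_left
      obtain ⟨f, hf, hft⟩ := hsplit p hp
      have hfP := hw_of f hf
      set t := f⁻¹ * p with ht
      have htP : t ∈ P := mul_mem (inv_mem hfP) hp
      have htC : t ∈ centX z x := mem_centX.2 ⟨pz t htP, hft.symm⟩
      have hcC : c ∈ centX z x := mem_centX.2 ⟨hcz, hcx⟩
      set l := c * t * c⁻¹ * t⁻¹ with hl
      have hlL : l ∈ L := by
        rw [hl, ← commutatorElement_def]
        exact Subgroup.commutator_mem_commutator hcC htC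
      have hlP : l ∈ P := by
        refine mul_mem ⟨C.conj_Qa hca htP.1, ?_⟩ (inv_mem htP)
        exact Qc_conj (by rw [hxgz]; exact hcy) htP.2
      have hcf : c * f = f * c := by
        rcases hf with h' | h' | h' | h' <;> rw [h']
        · rw [mul_one, one_mul]
        · exact hca
        · exact hcy
        · exact (show Commute c a from hca).mul_right (show Commute c y from hcy)
      have hfl := hcomm f hfP l hlP
      have hcp : c * p * c⁻¹ = l * p := by
        calc c * p * c⁻¹ = c * f * c⁻¹ * (c * t * c⁻¹) := by rw [ht]; group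
          _ = f * l * t := by rw [hcf, hl]; group
          _ = l * p := by rw [hfl, ht]; group
      have e : k * p * k⁻¹ * p⁻¹ = q * (l * p) * q⁻¹ * (l * p)⁻¹ * l := by
        calc k * p * k⁻¹ * p⁻¹ = q * (c * p * c⁻¹) * q⁻¹ * p⁻¹ := by rw [hq]; group
          _ = q * (l * p) * q⁻¹ * p⁻¹ := by rw [hcp]
          _ = q * (l * p) * q⁻¹ * (l * p)⁻¹ * l := by group
      rw [e]
      exact mul_mem (hQstep q hqu hqa hqy (l * p) (mul_mem hlP hp))
        ⟨l, hlL, hlP, 1, Or.inl rfl, (mul_one l).symm⟩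
    · rcases hd with h0 | h0 <;> obtain rfl := h0.symm
      · exact ⟨1, one_mem _, one_mem _, a, Or.inr (Or.inl rfl), (one_mul a).symm⟩
      · exact ⟨1, one_mem _, one_mem _, y, Or.inr (Or.inr (Or.inl rfl)), (one_mul y).symm⟩
  obtain ⟨l, hl, hlP, f, hf, e⟩ := hΓN hzΓ
  have hlC : l ∈ centX z x := by
    have hle : L ≤ centX z x := by
      rw [hL, Subgroup.commutator_le]
      intro s hs t ht
      rw [commutatorElement_def]
      exact mul_mem (mul_mem (mul_mem hs ht) (inv_mem hs)) (inv_mem ht)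
    exact hle hl
  have hzC : z ∈ centX z x := mem_centX.2 ⟨rfl, C.xz.symm⟩
  have hfC : f ∈ centX z x := by
    have : f = l⁻¹ * z := by rw [e]; group
    rw [this]; exact mul_mem (inv_mem hlC) hzC
  have hfx : x * f * x⁻¹ = f := conj_eq_comm (mem_centX.1 hfC).2.symm
  have hf1 : f = 1 := by
    rcases hf with h0 | h0 | h0 | h0 <;> obtain rfl := h0.symm
    · rfl
    · exact absurd hfx C.ne_four.2.2.1
    · rw [show x * y * x⁻¹ = a * y from C.w_eq, mul_eq_right] at hfx
      exact absurd (show x * a * x⁻¹ = 1 by rw [hfx]; group) C.ne_four.1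
    · rw [show x * (a * y) * x⁻¹ = a from C.x_w, left_eq_mul] at hfx
      exact absurd hfx C.ne_four.1
  rw [hf1, mul_one] at e
  rw [e]
  exact hl

end Cfg

end H82.Fi24Cent
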